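import Cfsg.Agent.Lib.Involutions.BaerSuzuki
import Cfsg.Prelude.Def_SubgroupEmbedding
import Cfsg.Prelude.Def_Solvable
import Cfsg.Prelude.Def_Transfer

/-!
A Sidki pair of order at most four meets the largest normal 2-subgroup.
-/

set_option autoImplicit false

namespace Cfsg.Agent.Techniques.LinePair.Sidki

variable {G : Type*} [Group G]

theorem eq_one_of_sq {h : G} (ho : Odd (orderOf h)) (h2 : h * h = 1) : h = 1 := by
  have hd : orderOf h ∣ 2 := orderOf_dvd_of_pow_eq_one (by rw [pow_two, h2])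
  rcases (Nat.dvd_prime Nat.prime_two).1 hd with h1 | h1
  · exact orderOf_eq_one_iff.1 h1
  · rw [h1] at ho; exact absurd ho (by decide)

theorem inverted_not_fixed {h a : G} (ho : Odd (orderOf h)) (hi : a * h * a⁻¹ = h⁻¹) (hc : a * h = h * a) :
    h = 1 := by
  rw [hc, mul_inv_cancel_right] at hi
  exact eq_one_of_sq ho (mul_eq_one_iff_eq_inv.2 hi)

/-- The three involutions cannot invert and centralize two elements in this pattern. -/
theorem pattern [Finite G] (a b c h k : G) (hab : a * b = c) (hba : b * a = c)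
    (hsid : ∀ (x v : G), (v = a ∨ v = c) → Odd (orderOf x) → v * x * v⁻¹ = x⁻¹ →
      a * x = x * a ∨ b * x = x * b ∨ c * x = x * c)
    (hh : h ≠ 1) (hho : Odd (orderOf h)) (hah : a * h * a⁻¹ = h⁻¹) (hbh : b * h = h * b)
    (hk : k ≠ 1) (hko : Odd (orderOf k)) (hbk : b * k * b⁻¹ = k⁻¹) (hak : a * k = k * a) : False := by
  have hak' : a * k * a⁻¹ = k := by rw [hak, mul_inv_cancel_right]
  have hbh' : b * h * b⁻¹ = h := by rw [hbh, mul_inv_cancel_right]
  have hch : c * h * c⁻¹ = h⁻¹ := by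
    calc c * h * c⁻¹ = a * (b * h * b⁻¹) * a⁻¹ := by rw [← hab]; group
      _ = _ := by rw [hbh', hah]
  have hck : c * k * c⁻¹ = k⁻¹ := by
    calc c * k * c⁻¹ = b * (a * k * a⁻¹) * b⁻¹ := by rw [← hba]; group
      _ = _ := by rw [hak', hbk]
  have hcomm : Commute h k := by
    set x := k⁻¹ * h * k
    have hax : a * x * a⁻¹ = x⁻¹ := by
      calc a * x * a⁻¹ = (a * k * a⁻¹)⁻¹ * (a * h * a⁻¹) * (a * k * a⁻¹) := by simp only [x]; group
        _ = _ := by rw [hak', hah]; simp only [x]; group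
    have hxo : Odd (orderOf x) := by
      have : orderOf x = orderOf h := by
        have := Involutions.Basic.orderOf_conj (k⁻¹) h
        rwa [inv_inv] at this
      rwa [this]
    rcases hsid x a (Or.inl rfl) hxo hax with h1 | h1 | h1
    · exfalso
      have := inverted_not_fixed hxo hax h1
      apply hh
      calc h = k * x * k⁻¹ := by simp only [x]; group
        _ = 1 := by rw [this]; group
    · have e : b * x * b⁻¹ = x := by rw [h1, mul_inv_cancel_right]
      have e' : k * h * k⁻¹ = k⁻¹ * h * k := by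
        calc k * h * k⁻¹ = (b * k * b⁻¹)⁻¹ * (b * h * b⁻¹) * (b * k * b⁻¹) := by rw [hbk, hbh']; group
          _ = b * x * b⁻¹ := by simp only [x]; group
          _ = _ := e
      have e2 : Commute h (k ^ 2) := by
        show h * k ^ 2 = k ^ 2 * h
        calc h * k ^ 2 = k * (k⁻¹ * h * k) * k := by rw [pow_two]; group
          _ = k * (k * h * k⁻¹) * k := by rw [e']
          _ = k ^ 2 * h := by rw [pow_two]; group
      obtain ⟨m, hm⟩ := hko
      have e3 : (k ^ 2) ^ (m + 1) = k := by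
        rw [← pow_mul, show 2 * (m + 1) = orderOf k + 1 by omega, pow_succ, pow_orderOf_eq_one, one_mul]
      exact e3 ▸ e2.pow_right (m + 1)
    · exfalso
      have e : c * x * c⁻¹ = x := by rw [h1, mul_inv_cancel_right]
      have e' : k ^ 2 * h * (k ^ 2)⁻¹ = h⁻¹ := by
        have e4 : k * h⁻¹ * k⁻¹ = k⁻¹ * h * k := by
          calc k * h⁻¹ * k⁻¹ = (c * k * c⁻¹)⁻¹ * (c * h * c⁻¹) * (c * k * c⁻¹) := by rw [hck, hch]; group
            _ = c * x * c⁻¹ := by simp only [x]; group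
            _ = _ := e
        calc k ^ 2 * h * (k ^ 2)⁻¹ = k * (k * h⁻¹ * k⁻¹)⁻¹ * k⁻¹ := by rw [pow_two]; group
          _ = _ := by rw [e4]; group
      have hn : ∀ n : ℕ, (k ^ 2) ^ n * h * ((k ^ 2) ^ n)⁻¹ = if Even n then h else h⁻¹ := by
        intro n
        induction n with
        | zero => simp
        | succ n ih =>
          calc (k ^ 2) ^ (n + 1) * h * ((k ^ 2) ^ (n + 1))⁻¹
              = k ^ 2 * ((k ^ 2) ^ n * h * ((k ^ 2) ^ n)⁻¹) * (k ^ 2)⁻¹ := by rw [pow_succ']; group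
            _ = _ := by
              rw [ih]
              by_cases hn : Even n
              · rw [if_pos hn, e', if_neg (by simpa [Nat.even_add_one] using hn)]
              · rw [if_neg hn, if_pos (by simpa [Nat.even_add_one] using hn)]
                calc k ^ 2 * h⁻¹ * (k ^ 2)⁻¹ = (k ^ 2 * h * (k ^ 2)⁻¹)⁻¹ := by group
                  _ = h := by rw [e', inv_inv]
      have := hn (orderOf k)
      rw [← pow_mul, mul_comm, pow_mul, pow_orderOf_eq_one, one_pow, if_neg (Nat.not_even_iff_odd.2 hko),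
        one_mul, inv_one, mul_one] at this
      exact hh (eq_one_of_sq hho (mul_eq_one_iff_eq_inv.2 this))
  set u := h * k
  have huo : Odd (orderOf u) := Odd.of_dvd_nat (hho.mul hko) (hcomm.orderOf_mul_dvd_lcm.trans (Nat.lcm_dvd_mul _ _))
  have hcu : c * u * c⁻¹ = u⁻¹ := by
    calc c * u * c⁻¹ = (c * h * c⁻¹) * (c * k * c⁻¹) := by simp only [u]; group
      _ = (k * h)⁻¹ := by rw [hch, hck]; group
      _ = _ := by rw [← hcomm.eq]
  rcases hsid u c (Or.inr rfl) huo hcu with h1 | h1 | h1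
  · have e : h⁻¹ * k = h * k := by
      calc h⁻¹ * k = (a * h * a⁻¹) * (a * k * a⁻¹) := by rw [hah, hak']
        _ = a * u * a⁻¹ := by simp only [u]; group
        _ = _ := by rw [h1, mul_inv_cancel_right]
    exact hh (eq_one_of_sq hho (mul_eq_one_iff_eq_inv.2 (mul_right_cancel e).symm))
  · have e : h * k⁻¹ = h * k := by
      calc h * k⁻¹ = (b * h * b⁻¹) * (b * k * b⁻¹) := by rw [hbk, hbh']
        _ = b * u * b⁻¹ := by simp only [u]; group
        _ = _ := by rw [h1, mul_inv_cancel_right]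
    exact hk (eq_one_of_sq hko (mul_eq_one_iff_eq_inv.2 (mul_left_cancel e).symm))
  · have e := inverted_not_fixed huo hcu h1
    have : h = k⁻¹ := mul_eq_one_iff_eq_inv.1 e
    exact hk (inverted_not_fixed hko hbk (by
      have h2 : Commute b h := hbh
      rw [this] at h2
      exact inv_inv k ▸ h2.inv_right))

theorem main [Finite G] (V : Subgroup G) (hV : Cfsg.IsElementaryAbelian 2 V) (hV1 : V ≠ ⊥)
    (hS : Cfsg.IsSidkiPair V) (h4 : Nat.card V ≤ 4) : V ⊓ Cfsg.pCore 2 G ≠ ⊥ := by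
  classical
  intro hbot
  obtain ⟨hVc, hV2⟩ := hV
  have hinv : ∀ t ∈ V, t ≠ 1 → ∃ h : G, h ≠ 1 ∧ Odd (orderOf h) ∧ t * h * t⁻¹ = h⁻¹ := by
    intro t ht ht1
    refine Involutions.BaerSuzuki.exists_inverted_odd t (orderOf_eq_prime (hV2 t ht) ht1) fun N hN hp htN => ht1 ?_
    have : t ∈ V ⊓ Cfsg.pCore 2 G := ⟨ht, (le_sSup ⟨hN, hp⟩ : N ≤ Cfsg.pCore 2 G) htN⟩
    rw [hbot] at this
    exact this
  have hcen : ∀ x v : G, v ∈ V → Odd (orderOf x) → v * x * v⁻¹ = x⁻¹ → x ≠ 1 →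
      ∃ w ∈ V, w ≠ 1 ∧ w ≠ v ∧ w * x = x * w := by
    intro x v hv hx hvx hx1
    obtain ⟨w, hw, hw1, hwx⟩ := hS x v hv hx hvx
    exact ⟨w, hw, hw1, fun e => hx1 (inverted_not_fixed hx hvx (e ▸ hwx)), hwx⟩
  obtain ⟨⟨a, ha⟩, ha1⟩ : ∃ a : V, a ≠ 1 := V.ne_bot_iff_exists_ne_one.1 hV1
  replace ha1 : a ≠ 1 := fun e => ha1 (Subtype.ext e)
  obtain ⟨h, hh1, hho, hah⟩ := hinv a ha ha1
  obtain ⟨b, hb, hb1, hba, hbh⟩ := hcen h a ha hho hah hh1
  obtain ⟨k, hk1, hko, hbk⟩ := hinv b hb hb1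
  obtain ⟨w, hw, hw1, hwb, hwk⟩ := hcen k b hb hko hbk hk1
  have hmul : ∀ s t : G, s ∈ V → t ∈ V → s * t = t * s := fun s t hs ht =>
    congrArg Subtype.val (mul_comm' (⟨s, hs⟩ : V) ⟨t, ht⟩)
  have hsq : ∀ s ∈ V, s * s = 1 := fun s hs => by rw [← pow_two]; exact hV2 s hs
  have hneq : ∀ s t : G, s ∈ V → t ∈ V → s ≠ 1 → t ≠ 1 → s ≠ t → s * t ≠ 1 ∧ s * t ≠ s ∧ s * t ≠ t :=
    fun s t hs ht hs1 ht1 hst => ⟨fun e => hst (mul_left_cancel ((hsq s hs).trans e.symm)),
      fun e => ht1 (mul_eq_left.1 e), fun e => hs1 (mul_eq_right.1 e)⟩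
  have hall : ∀ s t : G, s ∈ V → t ∈ V → s ≠ 1 → t ≠ 1 → s ≠ t →
      ∀ x ∈ V, x = 1 ∨ x = s ∨ x = t ∨ x = s * t := by
    intro s t hs ht hs1 ht1 hst x hx
    obtain ⟨n1, n2, n3⟩ := hneq s t hs ht hs1 ht1 hst
    by_contra hne
    push Not at hne
    obtain ⟨e1, e2, e3, e4⟩ := hne
    let T : Finset G := {1, s, t, s * t, x}
    have hT : T.card = 5 := by
      simp only [T]
      rw [Finset.card_insert_of_notMem, Finset.card_insert_of_notMem, Finset.card_insert_of_notMem,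
        Finset.card_insert_of_notMem, Finset.card_singleton] <;>
        simp only [Finset.mem_insert, Finset.mem_singleton, not_or]
      · exact Ne.symm e4
      · exact ⟨Ne.symm n3, Ne.symm e3⟩
      · exact ⟨hst, Ne.symm n2, Ne.symm e2⟩
      · exact ⟨Ne.symm hs1, Ne.symm ht1, Ne.symm n1, Ne.symm e1⟩
    have hsub : ∀ y ∈ T, y ∈ V := by
      intro y hy
      simp only [T, Finset.mem_insert, Finset.mem_singleton] at hy
      rcases hy with rfl | rfl | rfl | rfl | rfl
      · exact V.one_mem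
      · exact hs
      · exact ht
      · exact V.mul_mem hs ht
      · exact hx
    have := Nat.card_le_card_of_injective (fun y : T => (⟨y.1, hsub y.1 y.2⟩ : V))
      fun y z e => Subtype.ext (by simpa using congrArg Subtype.val e)
    rw [Nat.card_eq_fintype_card, Fintype.card_coe, hT] at this
    omega
  have key : ∀ a' b' h' k' : G, a' ∈ V → b' ∈ V → a' ≠ 1 → b' ≠ 1 → a' ≠ b' → h' ≠ 1 → Odd (orderOf h') →
      a' * h' * a'⁻¹ = h'⁻¹ → b' * h' = h' * b' → k' ≠ 1 → Odd (orderOf k') → b' * k' * b'⁻¹ = k'⁻¹ →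
      a' * k' = k' * a' → False := by
    intro a' b' h' k' ha' hb' ha1' hb1' hne e1 e2 e3 e4 e5 e6 e7 e8
    refine pattern a' b' (a' * b') h' k' rfl (hmul b' a' hb' ha') (fun x v hv hx hvx => ?_) e1 e2 e3 e4 e5 e6 e7 e8
    obtain ⟨y, hy, hy1, hyx⟩ := hS x v (by rcases hv with rfl | rfl; exacts [ha', V.mul_mem ha' hb']) hx hvx
    rcases hall a' b' ha' hb' ha1' hb1' hne y hy with rfl | rfl | rfl | rfl
    exacts [absurd rfl hy1, Or.inl hyx, Or.inr (Or.inl hyx), Or.inr (Or.inr hyx)]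
  by_cases hwa : w = a
  · subst hwa
    exact key w b h k hw hb hw1 hb1 (Ne.symm hba) hh1 hho hah hbh hk1 hko hbk hwk
  · have hwab : w = a * b := by
      rcases hall a b ha hb ha1 hb1 (Ne.symm hba) w hw with e | e | e | e
      exacts [absurd e hw1, absurd e hwa, absurd e hwb, e]
    have hwh : w * h * w⁻¹ = h⁻¹ := by
      calc w * h * w⁻¹ = a * (b * h * b⁻¹) * a⁻¹ := by rw [hwab]; group
        _ = _ := by rw [hbh, mul_inv_cancel_right, hah]
    exact key w b h k hw hb hw1 hb1 hwb hh1 hho hwh hbh hk1 hko hbk hwk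

end Cfsg.Agent.Techniques.LinePair.Sidki
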