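import Cfsg.Agent.Techniques.LinePair.Main

/-!
Sources of shears on the subgroups of order `p ^ 2`.
-/

set_option autoImplicit false

namespace Cfsg.Agent.Techniques.LinePair.Planes

open Subgroup Setup Local

variable {G : Type*} [Group G] [Finite G] {p : ℕ} [Fact p.Prime] {Q : Subgroup G} (D : Data p Q)

theorem elA_inj {a : G} (ha : a ∈ Q) (hcd : cd D a ≠ 0) {i j i' j' : ZMod p}
    (h : elA D.z a i j = elA D.z a i' j') : i = i' ∧ j = j' := by
  have h1 := congrArg (cd D) h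
  simp only [elA] at h1
  rw [cd_mul D (pw_mem D.hz _) (pw_mem ha _), cd_mul D (pw_mem D.hz _) (pw_mem ha _), cd_pwz, cd_pwz, zero_add,
    zero_add, cd_pw D ha, cd_pw D ha] at h1
  have hj : j = j' := by
    by_contra hne
    refine hcd ((smul_eq_zero.1 (?_ : (j - j') • cd D a = 0)).resolve_left (sub_ne_zero.2 hne))
    rw [sub_smul, h1, sub_self]
  subst hj
  exact ⟨pw_inj D.ord (mul_right_cancel (h : pw D.z i * pw a j = pw D.z i' * pw a j)), rfl⟩

theorem exists_line (hcard : Nat.card Q = p ^ 3) (A : Subgroup G) (hA : A ≤ Q) (hAc : Nat.card A = p ^ 2) :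
    D.z ∈ A ∧ ∃ a ∈ A, cd D a ≠ 0 ∧ ∀ u ∈ A, ∃ i j : ZMod p, u = elA D.z a i j := by
  classical
  have hp := (Fact.out : p.Prime)
  have hzc : Nat.card (zpowers D.z) = p := by rw [Nat.card_zpowers, D.ord]
  obtain ⟨a, haA, hcd⟩ : ∃ a ∈ A, cd D a ≠ 0 := by
    by_contra h
    push Not at h
    have hle : A ≤ zpowers D.z := fun u hu => by
      obtain ⟨k, hk⟩ := cd_eq_zero D (hA hu) (h u hu)
      rw [hk]
      exact Subgroup.pow_mem _ (mem_zpowers _) _
    have := Subgroup.card_dvd_of_le hle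
    rw [hAc, hzc] at this
    have h2 := Nat.le_of_dvd hp.pos this
    have h3 := hp.one_lt
    nlinarith
  have hz : D.z ∈ A := by
    by_contra hz
    have hAB : A < A ⊔ zpowers D.z :=
      lt_of_le_of_ne le_sup_left fun h => hz (h ▸ le_sup_right (a := A) (mem_zpowers D.z))
    have hB : A ⊔ zpowers D.z ≤ Q := sup_le hA (zpowers_le.2 D.hz)
    have hBQ : A ⊔ zpowers D.z = Q := by
      refine Subgroup.eq_of_le_of_card_ge hB ?_
      obtain ⟨k, hk, hkB⟩ := (Nat.dvd_prime_pow hp).1 (hcard ▸ Subgroup.card_dvd_of_le hB)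
      have h1 : Nat.card A < Nat.card (A ⊔ zpowers D.z : Subgroup G) := by
        by_contra h
        push Not at h
        exact hAB.ne (Subgroup.eq_of_le_of_card_ge hAB.le h)
      rw [hAc, hkB] at h1
      have := (Nat.pow_lt_pow_iff_right hp.one_lt).1 h1
      rw [hcard, hkB]
      exact Nat.pow_le_pow_right hp.pos (by omega)
    haveI : IsMulCommutative A := by
      haveI : IsPGroup p A := IsPGroup.of_card hAc
      exact IsPGroup.isMulCommutative_of_card_eq_prime_sq hAc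
    have hcomm : A ⊔ zpowers D.z ≤ centralizer (A : Set G) := by
      refine sup_le (fun u hu => mem_centralizer_iff.2 fun v hv => ?_) (zpowers_le.2 (mem_centralizer_iff.2 fun v hv =>
        (D.cen _ (hA hv)).eq))
      exact congrArg Subtype.val (mul_comm' (⟨v, hv⟩ : A) ⟨u, hu⟩)
    rw [hBQ] at hcomm
    obtain ⟨b, hb, hb2⟩ := exists_shear D (hA haA) hcd
    have h := (mem_centralizer_iff.1 (hcomm hb)) a haA
    rw [← h, mul_inv_cancel_right] at hb2
    have : D.z = 1 := right_eq_mul.1 hb2 ▸ rfl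
    exact hp.ne_one (D.ord ▸ this ▸ orderOf_one)
  refine ⟨hz, a, haA, hcd, ?_⟩
  let f : ZMod p × ZMod p → A := fun x =>
    ⟨elA D.z a x.1 x.2, A.mul_mem (A.pow_mem hz _) (A.pow_mem haA _)⟩
  have hf : Function.Injective f := fun x y h => by
    obtain ⟨h1, h2⟩ := elA_inj D (hA haA) hcd (congrArg Subtype.val h)
    exact Prod.ext h1 h2
  have hb : Function.Bijective f := hf.bijective_of_nat_card_le (by
    rw [hAc, Nat.card_prod, Nat.card_zmod, sq])
  intro u hu
  obtain ⟨x, hx⟩ := hb.2 ⟨u, hu⟩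
  exact ⟨x.1, x.2, congrArg Subtype.val hx.symm⟩

/-- The shear of an abelian plane is an automorphism of order `p`. -/
theorem exists_shear_aut (A : Subgroup G) {a : G} (haQ : a ∈ Q) (hcd : cd D a ≠ 0) (haA : a ∈ A) (hz : D.z ∈ A)
    (hspan : ∀ u ∈ A, ∃ i j : ZMod p, u = elA D.z a i j) :
    ∃ φ : MulAut A, orderOf φ = p ∧ φ ⟨a, haA⟩ = ⟨a, haA⟩ ∧ φ ⟨D.z, hz⟩ = ⟨D.z * a, A.mul_mem hz haA⟩ := by
  classical
  have hp := (Fact.out : p.Prime)
  have hzp : D.z ^ p = 1 := D.exp _ D.hz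
  have hap : a ^ p = 1 := D.exp _ haQ
  have hmem : ∀ i j : ZMod p, elA D.z a i j ∈ A := fun i j => A.mul_mem (A.pow_mem hz _) (A.pow_mem haA _)
  have hmul : ∀ i j i' j' : ZMod p, elA D.z a i j * elA D.z a i' j' = elA D.z a (i + i') (j + j') := by
    intro i j i' j'
    have hc : Commute (pw a j) (pw D.z i') := pw_commute (D.cen _ haQ) _ _
    simp only [elA, pw_add hzp, pw_add hap]
    calc pw D.z i * pw a j * (pw D.z i' * pw a j') = pw D.z i * (pw a j * pw D.z i') * pw a j' := by group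
      _ = _ := by rw [hc.eq]; group
  let e0 : Multiplicative (ZMod p × ZMod p) →* A :=
      { toFun := fun x => (⟨elA D.z a x.toAdd.1 x.toAdd.2, hmem _ _⟩ : A)
        map_one' := Subtype.ext (by simp [elA, pw_zero])
        map_mul' := fun x y => Subtype.ext (hmul _ _ _ _).symm }
  let e : Multiplicative (ZMod p × ZMod p) ≃* A :=
    MulEquiv.ofBijective e0
      ⟨fun x y h => by
        obtain ⟨h1, h2⟩ := elA_inj D haQ hcd (congrArg Subtype.val h)
        exact Multiplicative.toAdd.injective (Prod.ext h1 h2),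
      fun u => by
        obtain ⟨i, j, h⟩ := hspan u.1 u.2
        exact ⟨Multiplicative.ofAdd (i, j), Subtype.ext h.symm⟩⟩
  let s : ZMod p → MulAut (Multiplicative (ZMod p × ZMod p)) := fun c =>
    { toFun := fun x => Multiplicative.ofAdd (x.toAdd.1, x.toAdd.2 + c * x.toAdd.1)
      invFun := fun x => Multiplicative.ofAdd (x.toAdd.1, x.toAdd.2 - c * x.toAdd.1)
      left_inv := fun x => by simp
      right_inv := fun x => by simp
      map_mul' := fun x y => by
        apply Multiplicative.toAdd.injective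
        simp only [toAdd_ofAdd, toAdd_mul, Prod.fst_add, Prod.snd_add, Prod.mk_add_mk, Prod.mk.injEq, true_and]
        ring }
  have hs : ∀ n : ℕ, s 1 ^ n = s n := by
    intro n
    induction n with
    | zero =>
      refine MulEquiv.ext fun x => ?_
      simp [s]
    | succ n ih =>
      refine MulEquiv.ext fun x => ?_
      rw [pow_succ, ih, MulAut.mul_apply]
      apply Multiplicative.toAdd.injective
      simp [s]
      ring
  let φ : MulAut A := MulAut.congr e (s 1)
  have hφ : ∀ i j : ZMod p, φ (e (Multiplicative.ofAdd (i, j))) = e (Multiplicative.ofAdd (i, j + 1 * i)) := fun i j => by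
    show e (s 1 (e.symm (e _))) = _
    rw [MulEquiv.symm_apply_apply]
    rfl
  have ea : (⟨a, haA⟩ : A) = e (Multiplicative.ofAdd (0, 1)) := Subtype.ext (by
    show a = elA D.z a 0 1
    simp [elA, pw_zero, pw_one])
  have ez : (⟨D.z, hz⟩ : A) = e (Multiplicative.ofAdd (1, 0)) := Subtype.ext (by
    show D.z = elA D.z a 1 0
    simp [elA, pw_zero, pw_one])
  refine ⟨φ, ?_, ?_, ?_⟩
  · apply orderOf_eq_prime
    · show MulAut.congr e (s 1) ^ p = 1
      rw [← map_pow, hs, show s (p : ZMod p) = 1 from MulEquiv.ext fun x => by simp [s], map_one]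
    · intro h
      have h1 := hφ 1 0
      rw [h, MulAut.one_apply] at h1
      have h2 := congrArg (fun x => x.toAdd.2) (e.injective h1)
      simp at h2
  · rw [ea, hφ, mul_zero, add_zero]
  · rw [ez, hφ]
    refine Subtype.ext ?_
    show elA D.z a (1 : ZMod p) (0 + 1 * 1) = D.z * a
    simp [elA, pw_one]

/-- When all nontrivial elements are conjugate, every line carries the shear. -/
theorem exists_of_conjugate (P : Sylow p G) (D : Data p (P : Subgroup G))
    (hconj : ∀ x y : (P : Subgroup G), x ≠ 1 → y ≠ 1 → ∃ g : G, g * (x : G) * g⁻¹ = (y : G))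
    {a : G} (ha : a ∈ (P : Subgroup G)) (hcd : cd D a ≠ 0) :
    ∃ g : G, g * a * g⁻¹ = a ∧ g * D.z * g⁻¹ = D.z * a := by
  classical
  have hp := (Fact.out : p.Prime)
  have hz1 : D.z ≠ 1 := fun h => hp.ne_one (D.ord ▸ h ▸ orderOf_one)
  have ha1 : a ≠ 1 := fun h => hcd (by rw [h, cd_one])
  obtain ⟨h, hh⟩ := hconj ⟨D.z, D.hz⟩ ⟨a, ha⟩ (fun e => hz1 (congrArg Subtype.val e))
    (fun e => ha1 (congrArg Subtype.val e))
  replace hh : h * D.z * h⁻¹ = a := hh
  let C := centralizer ({a} : Set G)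
  let P' : Sylow p G := h • P
  have hP'C : (P' : Subgroup G) ≤ C := by
    intro w hw
    rw [Sylow.coe_subgroup_smul] at hw
    obtain ⟨x, hx, rfl⟩ := hw
    refine mem_centralizer_singleton_iff.2 ?_
    show h * x * h⁻¹ * a = a * (h * x * h⁻¹)
    rw [← hh]
    calc h * x * h⁻¹ * (h * D.z * h⁻¹) = h * (x * D.z) * h⁻¹ := by group
      _ = h * (D.z * x) * h⁻¹ := by rw [(D.cen _ hx).eq]
      _ = _ := by group
  have hzC : D.z ∈ C := mem_centralizer_singleton_iff.2 (D.cen _ ha).eq.symm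
  have hzp : IsPGroup p (zpowers (⟨D.z, hzC⟩ : C)) := IsPGroup.of_card (n := 1) (by
    rw [Nat.card_zpowers, pow_one, ← Subgroup.orderOf_coe, D.ord])
  obtain ⟨R, hR⟩ := hzp.exists_le_sylow
  obtain ⟨c, hc⟩ := MulAction.exists_smul_eq C (P'.subtype hP'C) R
  have hzR : (⟨D.z, hzC⟩ : C) ∈ (R : Subgroup C) := hR (mem_zpowers _)
  rw [← hc, Sylow.coe_subgroup_smul] at hzR
  obtain ⟨x, hx, hxe⟩ := hzR
  have hx' : x.1 ∈ (P' : Subgroup G) := hx
  rw [Sylow.coe_subgroup_smul] at hx'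
  obtain ⟨u, hu, hue⟩ := hx'
  set w := c.1 * h with hw
  have hca : c.1 * a = a * c.1 := mem_centralizer_singleton_iff.1 c.2
  have hwz : w * D.z * w⁻¹ = a := by
    calc w * D.z * w⁻¹ = c.1 * (h * D.z * h⁻¹) * c.1⁻¹ := by rw [hw]; group
      _ = a := by rw [hh, hca, mul_inv_cancel_right]
  have hwu : w * u * w⁻¹ = D.z := by
    have e1 : c.1 * x.1 * c.1⁻¹ = D.z := congrArg Subtype.val hxe
    have e2 : h * u * h⁻¹ = x.1 := hue
    rw [← e1, ← e2, hw]
    group
  have hcu : cd D u ≠ 0 := by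
    intro h0
    obtain ⟨k, hk⟩ := cd_eq_zero D hu h0
    have : D.z = pw a k := by rw [← hwu, hk, pw_conj, hwz]
    have h2 := congrArg (cd D) this
    rw [cd_pw D ha, ← pw_one (p := p) D.z, cd_pwz] at h2
    have hk0 : k = 0 := (smul_eq_zero.1 h2.symm).resolve_right hcd
    rw [hk0, pw_zero] at this
    exact hz1 this
  obtain ⟨q, hq, hq2⟩ := exists_shear D hu hcu
  refine ⟨w * q * w⁻¹, ?_, ?_⟩
  · rw [← hwz]
    calc w * q * w⁻¹ * (w * D.z * w⁻¹) * (w * q * w⁻¹)⁻¹ = w * (q * D.z * q⁻¹) * w⁻¹ := by group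
      _ = _ := by rw [(D.cen _ hq).eq, mul_inv_cancel_right]
  · conv_lhs => rw [← hwu]
    calc w * q * w⁻¹ * (w * u * w⁻¹) * (w * q * w⁻¹)⁻¹ = w * (q * u * q⁻¹) * w⁻¹ := by group
      _ = (w * D.z * w⁻¹) * (w * u * w⁻¹) := by rw [hq2]; group
      _ = _ := by rw [hwz, hwu]; exact (D.cen _ ha).eq

end Cfsg.Agent.Techniques.LinePair.Planes
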