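import Cfsg.Agent.Techniques.LinePair.Count

/-!
Lines of a plane fixed by elements of large order modulo scalars, in a finite linear group of order prime to
the characteristic.
-/

set_option autoImplicit false

namespace Cfsg.Agent.Techniques.LinePair.Action

open Matrix Finset

variable {K : Type*} [Field K] {H : Type*} [Group H]

/-- The action on subspaces. -/
@[reducible] def lineAction (ρ : H →* GL (Fin 2) K) : MulAction H (Submodule K (Fin 2 → K)) where
  smul g L := L.map ((ρ g : Matrix (Fin 2) (Fin 2) K).mulVecLin)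
  one_smul L := by
    show L.map ((ρ 1 : Matrix (Fin 2) (Fin 2) K).mulVecLin) = L
    rw [map_one, Units.val_one, Matrix.mulVecLin_one, Submodule.map_id]
  mul_smul g h L := by
    show L.map ((ρ (g * h) : Matrix (Fin 2) (Fin 2) K).mulVecLin) = (L.map _).map _
    rw [map_mul, Units.val_mul, Matrix.mulVecLin_mul, Submodule.map_comp]

/-- Scalar elements. -/
def scalars (ρ : H →* GL (Fin 2) K) : Subgroup H where
  carrier := {g | ∃ c : K, ∀ v, (ρ g : Matrix (Fin 2) (Fin 2) K) *ᵥ v = c • v}
  one_mem' := ⟨1, fun v => by simp⟩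
  mul_mem' := by
    rintro a b ⟨c, hc⟩ ⟨d, hd⟩
    exact ⟨d * c, fun v => by rw [map_mul, Units.val_mul, ← mulVec_mulVec, hd, mulVec_smul, hc, smul_smul]⟩
  inv_mem' := by
    rintro a ⟨c, hc⟩
    refine ⟨c⁻¹, fun v => ?_⟩
    have h1 : (ρ a⁻¹ : Matrix (Fin 2) (Fin 2) K) *ᵥ ((ρ a : Matrix (Fin 2) (Fin 2) K) *ᵥ v) = v := by
      rw [mulVec_mulVec, ← Units.val_mul, ← map_mul, inv_mul_cancel, map_one, Units.val_one, one_mulVec]
    rw [hc, mulVec_smul] at h1
    by_cases hc0 : c = 0
    · rw [hc0, zero_smul] at h1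
      rw [← h1]
      simp
    · exact (eq_inv_smul_iff₀ hc0).2 h1

theorem mem_scalars {ρ : H →* GL (Fin 2) K} {g : H} :
    g ∈ scalars ρ ↔ ∃ c : K, ∀ v, (ρ g : Matrix (Fin 2) (Fin 2) K) *ᵥ v = c • v := Iff.rfl

theorem scalars_normal (ρ : H →* GL (Fin 2) K) : (scalars ρ).Normal := ⟨by
  rintro a ⟨c, hc⟩ g
  refine ⟨c, fun v => ?_⟩
  rw [map_mul, map_mul, Units.val_mul, Units.val_mul, ← mulVec_mulVec, ← mulVec_mulVec, hc, mulVec_smul,
    mulVec_mulVec, ← Units.val_mul, ← map_mul, mul_inv_cancel, map_one, Units.val_one, one_mulVec]⟩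

/-- A nonscalar element of finite order prime to the characteristic has exactly two eigenlines. -/
theorem two_lines [IsAlgClosed K] (g : Matrix (Fin 2) (Fin 2) K) (N : ℕ) (hN : g ^ N = 1) (hN0 : (N : K) ≠ 0)
    (hns : ¬ ∃ c : K, ∀ v, g *ᵥ v = c • v) :
    ∃ u w : Fin 2 → K, ∃ a d : K, a ≠ d ∧ u ≠ 0 ∧ w ≠ 0 ∧ g *ᵥ u = a • u ∧ g *ᵥ w = d • w ∧
      Submodule.span K {u} ≠ Submodule.span K {w} ∧
      ∀ v, v ≠ 0 → (∃ c : K, g *ᵥ v = c • v) →
        Submodule.span K {v} = Submodule.span K {u} ∨ Submodule.span K {v} = Submodule.span K {w} := by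
  obtain ⟨a, ha⟩ := Module.End.exists_eigenvalue g.mulVecLin
  obtain ⟨u, hu⟩ := ha.exists_hasEigenvector
  have hgu : g *ᵥ u = a • u := hu.apply_eq_smul
  have hu0 : u ≠ 0 := hu.2
  obtain ⟨w0, hw0⟩ : ∃ w0, w0 ∉ Submodule.span K {u} := by
    by_contra h
    push Not at h
    exact hns ⟨a, fun v => by
      obtain ⟨c, rfl⟩ := Submodule.mem_span_singleton.1 (h v)
      rw [mulVec_smul, hgu, smul_comm]⟩
  have hli : LinearIndependent K ![u, w0] := by
    rw [LinearIndependent.pair_iff' hu0]
    exact fun c hc => hw0 (hc ▸ Submodule.smul_mem _ c (Submodule.mem_span_singleton_self u))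
  have hspan : ∀ v : Fin 2 → K, ∃ x y : K, v = x • u + y • w0 := by
    intro v
    have := hli.span_eq_top_of_card_eq_finrank (by simp)
    have hv : v ∈ Submodule.span K (Set.range ![u, w0]) := this ▸ Submodule.mem_top
    rw [Matrix.range_cons, Matrix.range_cons, Matrix.range_empty, Set.union_empty, Set.singleton_union] at hv
    obtain ⟨x, y, h⟩ := Submodule.mem_span_pair.1 hv
    exact ⟨x, y, h.symm⟩
  obtain ⟨b, d, hgw⟩ := hspan (g *ᵥ w0)
  have had : a ≠ d := by
    rintro rfl
    have hk : ∀ k : ℕ, (g ^ k) *ᵥ w0 = a ^ k • w0 + ((k : K) * a ^ (k - 1) * b) • u := by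
      intro k
      induction k with
      | zero => simp
      | succ k ih =>
        rw [pow_succ', ← mulVec_mulVec, ih, mulVec_add, mulVec_smul, mulVec_smul, hgu, hgw, smul_add, smul_smul,
          smul_smul, smul_smul]
        rcases k with _ | k
        · simp; module
        · simp only [Nat.cast_succ, add_tsub_cancel_right, pow_succ]
          module
    have h := hk N
    rw [hN, one_mulVec] at h
    have ha0 : a ≠ 0 := by
      intro ha0
      have hpow : ∀ k : ℕ, (g ^ k) *ᵥ u = a ^ k • u := by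
        intro k
        induction k with
        | zero => simp
        | succ k ih => rw [pow_succ', ← mulVec_mulVec, ih, mulVec_smul, hgu, smul_smul, pow_succ]
      have h2 := hpow N
      rw [hN, one_mulVec, ha0] at h2
      rcases N with _ | N
      · exact hN0 Nat.cast_zero
      · rw [zero_pow (Nat.succ_ne_zero _), zero_smul] at h2
        exact hu0 h2
    have e : (1 - a ^ N) • w0 = ((N : K) * a ^ (N - 1) * b) • u := by
      rw [sub_smul, one_smul, sub_eq_iff_eq_add']
      exact h
    have hz : (1 - a ^ N) = 0 ∧ ((N : K) * a ^ (N - 1) * b) = 0 := by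
      have := LinearIndependent.pair_iff.1 hli (-((N : K) * a ^ (N - 1) * b)) (1 - a ^ N) (by
        rw [neg_smul, e]; abel)
      exact ⟨this.2, neg_eq_zero.1 this.1⟩
    have hb : b = 0 := (mul_eq_zero.1 hz.2).resolve_left (mul_ne_zero hN0 (pow_ne_zero _ ha0))
    refine hns ⟨a, fun v => ?_⟩
    obtain ⟨x, y, rfl⟩ := hspan v
    rw [mulVec_add, mulVec_smul, mulVec_smul, hgu, hgw, hb, zero_smul, zero_add, smul_add, smul_comm x a, smul_comm y a]
  set w := w0 + (b / (d - a)) • u with hw
  have hda : d - a ≠ 0 := sub_ne_zero.2 (Ne.symm had)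
  have hgw' : g *ᵥ w = d • w := by
    rw [hw, mulVec_add, mulVec_smul, hgw, hgu, smul_add, smul_smul, smul_smul]
    have : b + b / (d - a) * a = d * (b / (d - a)) := by field_simp; ring
    rw [← this, add_smul]
    abel
  have hw' : w ∉ Submodule.span K {u} := fun h => hw0 (by
    have := Submodule.sub_mem _ h (Submodule.smul_mem _ (b / (d - a)) (Submodule.mem_span_singleton_self u))
    simpa [hw] using this)
  have hw0' : w ≠ 0 := fun h => hw' (h ▸ Submodule.zero_mem _)
  clear_value w
  refine ⟨u, w, a, d, had, hu0, hw0', hgu, hgw',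
    fun h => hw' (h ▸ Submodule.mem_span_singleton_self w), ?_⟩
  intro v hv0 ⟨c, hc⟩
  obtain ⟨x, y, hxy⟩ := hspan v
  have hxy' : v = (x - y * (b / (d - a))) • u + y • w := by
    rw [hw, hxy, smul_add, smul_smul, sub_smul]; abel
  set x' := x - y * (b / (d - a))
  have hli' : LinearIndependent K ![u, w] := by
    rw [LinearIndependent.pair_iff' hu0]
    exact fun c hc => hw' (hc ▸ Submodule.smul_mem _ c (Submodule.mem_span_singleton_self u))
  have hz := LinearIndependent.pair_iff.1 hli' (x' * a - c * x') (y * d - c * y) (by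
    rw [hxy', mulVec_add, mulVec_smul, mulVec_smul, hgu, hgw', smul_add, smul_smul, smul_smul, smul_smul, smul_smul] at hc
    rw [sub_smul, sub_smul, sub_add_sub_comm, sub_eq_zero]
    exact hc)
  by_cases hx : x' = 0
  · right
    have hy : y ≠ 0 := fun h => hv0 (by rw [hxy', hx, h]; simp)
    rw [hxy', hx, zero_smul, zero_add, Submodule.span_singleton_smul_eq (IsUnit.mk0 _ hy)]
  · left
    have hca : c = a := by
      have : x' * (a - c) = 0 := by linear_combination hz.1
      exact (sub_eq_zero.1 ((mul_eq_zero.1 this).resolve_left hx)).symm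
    have hy : y = 0 := by
      have : y * (d - a) = 0 := by rw [← hca]; linear_combination hz.2
      exact (mul_eq_zero.1 this).resolve_right hda
    rw [hxy', hy, zero_smul, add_zero, Submodule.span_singleton_smul_eq (IsUnit.mk0 _ hx)]

/-- Lines with a stabilising element of order divisible by `m` modulo scalars. -/
theorem card_lines_le [IsAlgClosed K] [Finite H] (ρ : H →* GL (Fin 2) K) (hchar : (Nat.card H : K) ≠ 0)
    {ι : Type*} [Fintype ι] (v : ι → Fin 2 → K) (hv : ∀ i, v i ≠ 0)
    (hinj : Function.Injective fun i => Submodule.span K {v i}) (m : ℕ) (hm : m = 4 ∨ 6 ≤ m)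
    (hh : ∀ i, ∃ h : H, (∃ c : K, (ρ h : Matrix (Fin 2) (Fin 2) K) *ᵥ v i = c • v i) ∧
      ∀ k : ℕ, h ^ k ∈ scalars ρ → m ∣ k) :
    Fintype.card ι ≤ 6 ∧ (6 ≤ m → Fintype.card ι ≤ 2) := by
  classical
  letI := lineAction ρ
  haveI : Fintype H := Fintype.ofFinite H
  set S := scalars ρ with hSdef
  haveI : S.Normal := scalars_normal ρ
  have hsmul : ∀ (g : H) (x : Fin 2 → K), g • Submodule.span K {x} =
      Submodule.span K {(ρ g : Matrix (Fin 2) (Fin 2) K) *ᵥ x} := fun g x => by
    show Submodule.map _ _ = _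
    rw [Submodule.map_span, Set.image_singleton, Matrix.mulVecLin_apply]
  have hne0 : ∀ (g : H) (x : Fin 2 → K), x ≠ 0 → (ρ g : Matrix (Fin 2) (Fin 2) K) *ᵥ x ≠ 0 := fun g x hx h => hx (by
    have := congrArg ((ρ g⁻¹ : Matrix (Fin 2) (Fin 2) K) *ᵥ ·) h
    simp only [mulVec_mulVec, ← Units.val_mul, ← map_mul, inv_mul_cancel, map_one, Units.val_one, one_mulVec,
      mulVec_zero] at this
    exact this)
  have heig : ∀ (g : H) (x : Fin 2 → K), x ≠ 0 → (g • Submodule.span K {x} = Submodule.span K {x} ↔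
      ∃ c : K, (ρ g : Matrix (Fin 2) (Fin 2) K) *ᵥ x = c • x) := fun g x hx => by
    rw [hsmul]
    constructor
    · intro h
      obtain ⟨c, hc⟩ := Submodule.mem_span_singleton.1 (h ▸ Submodule.mem_span_singleton_self _)
      exact ⟨c, hc.symm⟩
    · rintro ⟨c, hc⟩
      have hc0 : c ≠ 0 := fun h => hne0 g x hx (by rw [hc, h, zero_smul])
      rw [hc, Submodule.span_singleton_smul_eq (IsUnit.mk0 _ hc0)]
  -- the fixed lines
  let Pts : Set (Submodule K (Fin 2 → K)) :=
    {L | ∃ x, x ≠ 0 ∧ L = Submodule.span K {x} ∧ ∃ g : H, g ∉ S ∧ g • L = L}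
  have hpair : ∀ g : H, g ∉ S → ∃ L₁ L₂, L₁ ≠ L₂ ∧ L₁ ∈ Pts ∧ L₂ ∈ Pts ∧ g • L₁ = L₁ ∧ g • L₂ = L₂ ∧
      ∀ L ∈ Pts, g • L = L → L = L₁ ∨ L = L₂ := by
    intro g hg
    obtain ⟨u, w, a, d, -, hu, hw, hgu, hgw, hne, hall⟩ := two_lines (ρ g : Matrix (Fin 2) (Fin 2) K) (Nat.card H)
      (by rw [← Units.val_pow_eq_pow_val, ← map_pow, pow_card_eq_one', map_one, Units.val_one]) hchar hg
    have h1 := (heig g u hu).2 ⟨a, hgu⟩
    have h2 := (heig g w hw).2 ⟨d, hgw⟩
    refine ⟨_, _, hne, ⟨u, hu, rfl, g, hg, h1⟩, ⟨w, hw, rfl, g, hg, h2⟩, h1, h2, ?_⟩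
    rintro L ⟨x, hx, rfl, -⟩ hL
    exact hall x hx ((heig g x hx).1 hL)
  have hfin : Pts.Finite := by
    let pr : H → Set (Submodule K (Fin 2 → K)) := fun g =>
      if hg : g ∈ S then ∅ else {(hpair g hg).choose, (hpair g hg).choose_spec.choose}
    refine (Set.finite_iUnion fun g => (?_ : (pr g).Finite)).subset ?_
    · simp only [pr]; split
      · exact Set.finite_empty
      · exact Set.toFinite _
    · rintro L ⟨x, hx, rfl, g, hg, hL⟩
      refine Set.mem_iUnion.2 ⟨g, ?_⟩
      simp only [pr, dif_neg hg]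
      have := (hpair g hg).choose_spec.choose_spec.2.2.2.2.2 _ ⟨x, hx, rfl, g, hg, hL⟩ hL
      simpa using this
  have hinv : ∀ (g : H) L, L ∈ Pts → g • L ∈ Pts := by
    rintro g L ⟨x, hx, rfl, k, hk, hkL⟩
    refine ⟨_, hne0 g x hx, hsmul g x, g * k * g⁻¹, ?_, ?_⟩
    · intro h
      apply hk
      have := (inferInstance : S.Normal).conj_mem _ h g⁻¹
      simpa [mul_assoc] using this
    · rw [← mul_smul, inv_mul_cancel_right, mul_smul, hkL]
  letI act : MulAction H Pts :=
    { smul := fun g L => ⟨g • L.1, hinv g L.1 L.2⟩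
      one_smul := fun L => Subtype.ext (one_smul H L.1)
      mul_smul := fun a b L => Subtype.ext (mul_smul a b L.1) }
  haveI : Fintype Pts := hfin.fintype
  -- points of the family
  have hpt : ∀ i, ∃ h : H, (∀ k : ℕ, h ^ k ∈ S → m ∣ k) ∧ h ∉ S ∧
      h • Submodule.span K {v i} = Submodule.span K {v i} := fun i => by
    obtain ⟨h, hc, hk⟩ := hh i
    refine ⟨h, hk, fun hS => ?_, (heig h (v i) (hv i)).2 hc⟩
    have := Nat.le_of_dvd one_pos (hk 1 (by rwa [pow_one]))
    omega
  let P : ι → Pts := fun i => ⟨Submodule.span K {v i}, v i, hv i, rfl, _, (hpt i).choose_spec.2.1, (hpt i).choose_spec.2.2⟩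
  have hPinj : Function.Injective P := fun i j hij => hinj (congrArg Subtype.val hij)
  rcases isEmpty_or_nonempty ι with hι | hι
  · simp
  obtain ⟨i⟩ := hι
  obtain ⟨g₀, -, hg₀, -⟩ := hpt i
  -- counting
  set s := Nat.card S with hs
  set N := Nat.card H with hN
  obtain ⟨M, hM⟩ : s ∣ N := Subgroup.card_subgroup_dvd_card S
  have hs0 : 0 < s := Nat.card_pos
  have hM2 : 2 ≤ M := by
    by_contra h
    push Not at h
    have : Nat.card S = Nat.card H := by
      have : 0 < N := Nat.card_pos
      interval_cases M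
      · omega
      · omega
    exact hg₀ ((Subgroup.eq_top_of_card_eq S this) ▸ Subgroup.mem_top g₀)
  have hfix : ∀ g : H, Fintype.card (MulAction.fixedBy Pts g) = if g ∈ S then Fintype.card Pts else 2 := by
    intro g
    split
    · next hg =>
      obtain ⟨c, hc⟩ := hg
      refine Fintype.card_congr (Equiv.subtypeUnivEquiv fun L => Subtype.ext ?_)
      obtain ⟨x, hx, hL, -⟩ := L.2
      show g • L.1 = L.1
      rw [hL]
      exact (heig g x hx).2 ⟨c, hc x⟩
    · next hg =>
      obtain ⟨L₁, L₂, hne, h1, h2, e1, e2, hall⟩ := hpair g hg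
      rw [Fintype.card_eq_nat_card, Nat.card_coe_set_eq]
      have : (MulAction.fixedBy Pts g : Set Pts) = {⟨L₁, h1⟩, ⟨L₂, h2⟩} := by
        ext L
        simp only [MulAction.mem_fixedBy, Set.mem_insert_iff, Set.mem_singleton_iff]
        constructor
        · intro h
          rcases hall L.1 L.2 (congrArg Subtype.val h) with h' | h'
          · exact Or.inl (Subtype.ext h')
          · exact Or.inr (Subtype.ext h')
        · rintro (rfl | rfl)
          · exact Subtype.ext e1
          · exact Subtype.ext e2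
      rw [this, Set.ncard_pair fun h => hne (congrArg Subtype.val h)]
  have hburn := MulAction.sum_card_fixedBy_eq_card_orbits_mul_card_group H Pts
  simp only [hfix] at hburn
  rw [Finset.sum_ite, Finset.sum_const, Finset.sum_const, smul_eq_mul, smul_eq_mul] at hburn
  have hcS : (univ.filter (fun g : H => g ∈ S)).card = s := by
    rw [hs, Nat.card_eq_fintype_card, Fintype.card_subtype]
  have hcS' : (univ.filter (fun g : H => g ∉ S)).card = N - s := by
    rw [hN, ← hcS, Nat.card_eq_fintype_card]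
    have := Finset.card_filter_add_card_filter_not (s := (univ : Finset H)) (fun g => g ∈ S)
    rw [Finset.card_univ] at this
    omega
  rw [hcS, hcS', ← Nat.card_eq_fintype_card (α := H), ← hN] at hburn
  -- orbits
  set Orb := Quotient (MulAction.orbitRel H Pts)
  haveI : Fintype Orb := Fintype.ofFinite Orb
  let e : Orb → ℕ := fun o => Nat.card (MulAction.stabilizer H o.out)
  have hSle : ∀ L : Pts, S ≤ MulAction.stabilizer H L := fun L g hg => by
    obtain ⟨c, hc⟩ := hg
    obtain ⟨x, hx, hL, -⟩ := L.2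
    refine Subtype.ext ?_
    show g • L.1 = L.1
    rw [hL]
    exact (heig g x hx).2 ⟨c, hc x⟩
  have hlt : ∀ L : Pts, S < MulAction.stabilizer H L := fun L => by
    refine lt_of_le_of_ne (hSle L) fun h => ?_
    obtain ⟨x, hx, hL, g, hg, hgL⟩ := L.2
    exact hg (h ▸ (MulAction.mem_stabilizer_iff.2 (Subtype.ext hgL)))
  let f : Orb → ℕ := fun o => e o / s
  have hef : ∀ o, e o = s * f o := fun o =>
    (Nat.mul_div_cancel' (Subgroup.card_dvd_of_le (hSle o.out))).symm
  have horb : ∀ o : Orb, (Nat.card (MulAction.orbit H o.out) : ℚ) = (M : ℚ) / f o := fun o => by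
    have h1 := Nat.card_congr (MulAction.orbitProdStabilizerEquivGroup H o.out)
    rw [Nat.card_prod, ← hN, hM] at h1
    have he : Nat.card (MulAction.stabilizer H o.out) = s * f o := hef o
    rw [he] at h1
    have hf0 : f o ≠ 0 := fun h => by
      rw [h, mul_zero] at he
      exact Nat.card_pos.ne' he
    have h2 : Nat.card (MulAction.orbit H o.out) * f o = M :=
      Nat.eq_of_mul_eq_mul_left hs0 (by rw [← h1]; ring)
    rw [eq_div_iff (by exact_mod_cast hf0)]
    exact_mod_cast h2
  have hf : ∀ o, 2 ≤ f o ∧ f o ≤ M := fun o => by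
    constructor
    · by_contra h
      push Not at h
      have h1 : Nat.card (MulAction.stabilizer H o.out) ≤ Nat.card S := by
        rw [show Nat.card (MulAction.stabilizer H o.out) = s * f o from hef o, ← hs]
        calc s * f o ≤ s * 1 := Nat.mul_le_mul le_rfl (by omega)
          _ = s := mul_one s
      exact (hlt o.out).ne (Subgroup.eq_of_le_of_card_ge (hSle o.out) h1)
    · have h1 : e o ≤ N := Nat.le_of_dvd Nat.card_pos (Subgroup.card_subgroup_dvd_card _)
      rw [hef, hM] at h1
      exact Nat.le_of_mul_le_mul_left h1 hs0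
  have hsum : (Fintype.card Pts : ℚ) = ∑ o : Orb, (M : ℚ) / f o := by
    rw [← Nat.card_eq_fintype_card, Nat.card_congr (MulAction.selfEquivSigmaOrbits H Pts), Nat.card_sigma]
    push_cast
    exact Finset.sum_congr rfl fun o _ => horb o
  have hsN : s ≤ N := Nat.le_of_dvd Nat.card_pos (Subgroup.card_subgroup_dvd_card S)
  have hq : (s : ℚ) * Fintype.card Pts + ((N : ℚ) - s) * 2 = (Fintype.card Orb : ℚ) * N := by
    have h := congrArg (fun n : ℕ => (n : ℚ)) hburn
    push_cast [Nat.cast_sub hsN] at h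
    convert h using 2
    simp [Orb, ← Nat.card_eq_fintype_card]
  have hNq : (N : ℚ) = s * M := by exact_mod_cast hM
  have heq : ∑ o : Orb, (1 - (1 : ℚ) / f o) = 2 - 2 / M := by
    have hM0 : (M : ℚ) ≠ 0 := by positivity
    have hs0' : (s : ℚ) ≠ 0 := by positivity
    rw [hsum, hNq] at hq
    have e1 : ∑ o : Orb, (M : ℚ) / f o = M * ∑ o : Orb, (1 : ℚ) / f o := by
      rw [Finset.mul_sum]; exact Finset.sum_congr rfl fun o _ => by ring
    rw [e1] at hq
    rw [Finset.sum_sub_distrib, Finset.sum_const, nsmul_eq_mul, mul_one, Finset.card_univ]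
    have h2 : (M : ℚ) * (∑ o : Orb, (1 : ℚ) / f o) + ((M : ℚ) - 1) * 2 = (Fintype.card Orb : ℚ) * M :=
      mul_left_cancel₀ hs0' (by linear_combination hq)
    field_simp
    linear_combination -h2
  obtain ⟨h6, h2⟩ := Count.orbit_numbers f M hM2 hf heq m hm
  have hgood : (Fintype.card ι : ℚ) ≤ ∑ o ∈ univ.filter (fun o => m ∣ f o), (M : ℚ) / f o := by
    let Good : Set Pts := {L | m ∣ f (Quotient.mk'' L)}
    have hPG : ∀ i, P i ∈ Good := by
      intro i
      obtain ⟨h, hk, -, hhL⟩ := hpt i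
      show m ∣ f (Quotient.mk'' (P i))
      set o : Orb := Quotient.mk'' (P i)
      obtain ⟨g, hg⟩ : ∃ g : H, g • (P i) = o.out := Quotient.exact (Quotient.out_eq o)
      set Z := MulAction.stabilizer H o.out
      have hmem : g * h * g⁻¹ ∈ Z := by
        rw [MulAction.mem_stabilizer_iff, ← hg, ← mul_smul, inv_mul_cancel_right, mul_smul]
        congr 1
        exact Subtype.ext hhL
      let z : Z := ⟨g * h * g⁻¹, hmem⟩
      haveI : (S.subgroupOf Z).Normal := (inferInstance : S.Normal).subgroupOf Z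
      have hcard : Nat.card (Z ⧸ S.subgroupOf Z) = f o := by
        have h1 := Subgroup.card_eq_card_quotient_mul_card_subgroup (S.subgroupOf Z)
        rw [Nat.card_congr (Subgroup.subgroupOfEquivOfLe (hSle o.out)).toEquiv, ← hs] at h1
        rw [show Nat.card Z = s * f o from hef o, mul_comm] at h1
        exact (Nat.eq_of_mul_eq_mul_right hs0 h1).symm
      have h1 := pow_card_eq_one' (G := Z ⧸ S.subgroupOf Z) (x := QuotientGroup.mk z)
      rw [hcard, ← QuotientGroup.mk_pow, QuotientGroup.eq_one_iff, Subgroup.mem_subgroupOf] at h1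
      refine hk _ ?_
      have h2 : g * h ^ f o * g⁻¹ ∈ S := by rw [← conj_pow]; exact h1
      have := (inferInstance : S.Normal).conj_mem _ h2 g⁻¹
      simpa [mul_assoc] using this
    have h1 : Fintype.card ι ≤ Nat.card Good := by
      rw [← Nat.card_eq_fintype_card]
      exact Nat.card_le_card_of_injective (fun i => (⟨P i, hPG i⟩ : Good)) fun i j h => hPinj (congrArg Subtype.val h)
    let E : Good ≃ Σ o : {o : Orb // m ∣ f o}, MulAction.orbit H o.1.out :=
      { toFun := fun L => ⟨⟨Quotient.mk'' L.1, L.2⟩, L.1, MulAction.orbitRel_apply.1 (Quotient.exact (Quotient.out_eq (Quotient.mk'' L.1 : Orb)).symm)⟩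
        invFun := fun x => ⟨x.2.1, by
          have : (Quotient.mk'' x.2.1 : Orb) = x.1.1 :=
            (Quotient.sound (MulAction.orbitRel_apply.2 x.2.2)).trans (Quotient.out_eq x.1.1)
          show m ∣ f _
          rw [this]; exact x.1.2⟩
        left_inv := fun L => rfl
        right_inv := fun x => by
          obtain ⟨⟨o, ho⟩, L, hL⟩ := x
          have he : (Quotient.mk'' L : Orb) = o :=
            (Quotient.sound (MulAction.orbitRel_apply.2 hL)).trans (Quotient.out_eq o)
          subst he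
          rfl }
    calc (Fintype.card ι : ℚ) ≤ (Nat.card Good : ℕ) := by exact_mod_cast h1
      _ = ∑ o : {o : Orb // m ∣ f o}, (M : ℚ) / f o.1 := by
          rw [Nat.card_congr E, Nat.card_sigma]
          push_cast
          exact Finset.sum_congr rfl fun o _ => horb o.1
      _ = _ := (Finset.sum_subtype _ (fun o => by simp) (fun o => (M : ℚ) / f o)).symm
  exact ⟨by exact_mod_cast hgood.trans h6, fun h => by exact_mod_cast hgood.trans (h2 h)⟩

end Cfsg.Agent.Techniques.LinePair.Action
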