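import Mathlib

/-!
A finite group of linear maps of a plane, of order prime to the characteristic: few lines have stabilisers
with a large cyclic image.
-/

set_option autoImplicit false

namespace Cfsg.Agent.Techniques.LinePair.Count

open Finset

/-- Orbit numerics: the sum of `1 - 1/f` over the orbits is `2 - 2/M`. -/
theorem orbit_numbers {ι : Type*} [Fintype ι] [DecidableEq ι] (f : ι → ℕ) (M : ℕ) (hM : 2 ≤ M)
    (hf : ∀ i, 2 ≤ f i ∧ f i ≤ M) (heq : ∑ i, (1 - (1 : ℚ) / f i) = 2 - 2 / M) (m : ℕ) (hm' : m = 4 ∨ 6 ≤ m) :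
    (∑ i ∈ univ.filter (fun i => m ∣ f i), (M : ℚ) / f i) ≤ 6 ∧
      (6 ≤ m → (∑ i ∈ univ.filter (fun i => m ∣ f i), (M : ℚ) / f i) ≤ 2) := by
  classical
  have hm : 4 ≤ m := by omega
  have hMq : (0 : ℚ) < 2 / M := by positivity
  have hlow : ∀ i, (1 : ℚ) / 2 ≤ 1 - 1 / f i := fun i => by
    have h2 : (2 : ℚ) ≤ f i := by exact_mod_cast (hf i).1
    have : (1 : ℚ) / f i ≤ 1 / 2 := one_div_le_one_div_of_le two_pos h2
    linarith
  have hk : Fintype.card ι ≤ 3 := by
    by_contra h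
    push Not at h
    have h1 : (Fintype.card ι : ℚ) * (1 / 2) ≤ ∑ i, (1 - (1 : ℚ) / f i) := by
      simpa using (Finset.card_nsmul_le_sum univ (fun i => (1 : ℚ) - 1 / f i) (1 / 2) (fun i _ => hlow i))
    have h4 : (4 : ℚ) ≤ Fintype.card ι := by exact_mod_cast h
    linarith [heq ▸ h1]
  set T := univ.filter (fun i => m ∣ f i) with hT
  have hTf : ∀ i ∈ T, m ∣ f i ∧ (m : ℚ) ≤ f i := fun i hi => by
    have h := (Finset.mem_filter.1 hi).2
    exact ⟨h, by exact_mod_cast Nat.le_of_dvd (by have := (hf i).1; omega) h⟩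
  rcases T.eq_empty_or_nonempty with h0 | ⟨i₀, hi₀⟩
  · rw [h0]; simp
  obtain ⟨hdvd₀, hm₀⟩ := hTf i₀ hi₀
  have hf0 : 4 ≤ f i₀ := hm.trans (Nat.le_of_dvd (by have := (hf i₀).1; omega) hdvd₀)
  have hcard : Fintype.card ι = (univ.erase i₀).card + 1 := by
    rw [Finset.card_erase_of_mem (mem_univ _), Finset.card_univ]
    have : 0 < Fintype.card ι := Fintype.card_pos_iff.2 ⟨i₀⟩
    omega
  have hsum : ∑ i, (1 - (1 : ℚ) / f i) = (1 - 1 / f i₀) + ∑ i ∈ univ.erase i₀, (1 - (1 : ℚ) / f i) :=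
    (Finset.add_sum_erase _ (fun i => (1 : ℚ) - 1 / f i) (mem_univ i₀)).symm
  have hf0pos : (0 : ℚ) < f i₀ := by have := (hf i₀).1; positivity
  have hMge : (1 : ℚ) / M ≤ 1 / f i₀ := one_div_le_one_div_of_le hf0pos (by exact_mod_cast (hf i₀).2)
  rcases (by omega : (univ.erase i₀).card = 0 ∨ (univ.erase i₀).card = 1 ∨ (univ.erase i₀).card = 2) with hc | hc | hc
  · exfalso
    rw [Finset.card_eq_zero] at hc
    rw [hsum, hc, Finset.sum_empty] at heq
    have : (2 : ℚ) / M ≤ 1 := by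
      rw [div_le_one (by positivity)]
      exact_mod_cast hM
    have : (0 : ℚ) < 1 / f i₀ := by positivity
    linarith
  · -- two orbits
    obtain ⟨i₁, hi₁⟩ := Finset.card_eq_one.1 hc
    rw [hsum, hi₁, Finset.sum_singleton] at heq
    have h1pos : (0 : ℚ) < f i₁ := by have := (hf i₁).1; positivity
    have hMge1 : (1 : ℚ) / M ≤ 1 / f i₁ := one_div_le_one_div_of_le h1pos (by exact_mod_cast (hf i₁).2)
    have e : (2 : ℚ) / M = 2 * (1 / M) := by ring
    have a0 : (M : ℚ) / f i₀ = 1 := by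
      have : (1 : ℚ) / f i₀ = 1 / M := by linarith
      rw [show (M : ℚ) / f i₀ = M * (1 / f i₀) by ring, this]
      field_simp
    have a1 : (M : ℚ) / f i₁ = 1 := by
      have : (1 : ℚ) / f i₁ = 1 / M := by linarith
      rw [show (M : ℚ) / f i₁ = M * (1 / f i₁) by ring, this]
      field_simp
    have hle : ∑ i ∈ T, (M : ℚ) / f i ≤ ∑ i, (M : ℚ) / f i :=
      Finset.sum_le_sum_of_subset_of_nonneg (Finset.subset_univ _) fun i _ _ => by positivity
    rw [← Finset.add_sum_erase _ _ (mem_univ i₀), hi₁, Finset.sum_singleton, a0, a1] at hle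
    exact ⟨by linarith, fun _ => by linarith⟩
  · -- three orbits
    obtain ⟨i₁, i₂, hne, hi₁₂⟩ := Finset.card_eq_two.1 hc
    rw [hsum, hi₁₂, Finset.sum_pair hne] at heq
    have hMq' : (1 : ℚ) < 1 / f i₀ + 1 / f i₁ + 1 / f i₂ := by linarith
    have hmem : i₁ ≠ i₀ ∧ i₂ ≠ i₀ := by
      constructor
      · exact (Finset.mem_erase.1 (hi₁₂ ▸ Finset.mem_insert_self i₁ _)).1
      · exact (Finset.mem_erase.1 (hi₁₂ ▸ Finset.mem_insert_of_mem (Finset.mem_singleton_self i₂))).1
    have h4 : (4 : ℚ) ≤ f i₀ := by exact_mod_cast hf0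
    have h4' : (1 : ℚ) / f i₀ ≤ 1 / 4 := one_div_le_one_div_of_le (by norm_num) h4
    have hsmall : ∀ j, 4 ≤ f j → (1 : ℚ) / f j ≤ 1 / 4 := fun j hj =>
      one_div_le_one_div_of_le (by norm_num) (by exact_mod_cast hj)
    have hhalf : ∀ j, (1 : ℚ) / f j ≤ 1 / 2 := fun j =>
      one_div_le_one_div_of_le (by norm_num) (by exact_mod_cast (hf j).1)
    have hnot : ∀ j k, ({j, k} : Finset ι) = {i₁, i₂} → j ≠ k → f j < 4 := by
      intro j k hjk hjk'
      by_contra hj
      push Not at hj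
      have e : (1 : ℚ) / f j + 1 / f k = 1 / f i₁ + 1 / f i₂ := by
        have := congrArg (fun s : Finset ι => ∑ x ∈ s, (1 : ℚ) / f x) hjk
        simpa [Finset.sum_pair hjk', Finset.sum_pair hne] using this
      linarith [hsmall j hj, hhalf k]
    have h1 : f i₁ < 4 := hnot i₁ i₂ rfl hne
    have h2 : f i₂ < 4 := hnot i₂ i₁ (Finset.pair_comm _ _) hne.symm
    have hTeq : T = {i₀} := by
      ext j
      refine ⟨fun hj => ?_, fun hj => by rw [Finset.mem_singleton.1 hj]; exact hi₀⟩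
      rw [Finset.mem_singleton]
      by_contra hne'
      have hj' : j ∈ univ.erase i₀ := Finset.mem_erase.2 ⟨hne', mem_univ _⟩
      have h4j := hm.trans (Nat.le_of_dvd (by have := (hf j).1; omega) (hTf j hj).1)
      rw [hi₁₂, Finset.mem_insert, Finset.mem_singleton] at hj'
      rcases hj' with rfl | rfl <;> omega
    rw [hTeq, Finset.sum_singleton]
    have hb1 := (hf i₁).1
    have hb2 := (hf i₂).1
    have hM0 : (0 : ℚ) < M := by positivity
    have hMf : (M : ℚ) / f i₀ = 2 / (f i₀ * (1 / f i₀ + 1 / f i₁ + 1 / f i₂ - 1)) := by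
      have : 1 / (f i₀ : ℚ) + 1 / f i₁ + 1 / f i₂ - 1 = 2 / M := by linarith
      rw [this]
      field_simp
    rw [hMf]
    interval_cases ha : f i₁ <;> interval_cases hb : f i₂
    · constructor
      · rw [show (f i₀ : ℚ) * (1 / f i₀ + 1 / (2 : ℕ) + 1 / (2 : ℕ) - 1) = 1 by field_simp; ring]
        norm_num
      · intro _
        rw [show (f i₀ : ℚ) * (1 / f i₀ + 1 / (2 : ℕ) + 1 / (2 : ℕ) - 1) = 1 by field_simp; ring]
        norm_num
    all_goals
      have h5 : f i₀ ≤ 5 := by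
        by_contra h
        push Not at h
        have h6 : (1 : ℚ) / f i₀ ≤ 1 / 6 := one_div_le_one_div_of_le (by norm_num) (by exact_mod_cast h)
        norm_num at hMq'
        linarith
      have hm5 : m ≤ 5 := (Nat.le_of_dvd (by omega) hdvd₀).trans h5
      have hm4' : m = 4 := by omega
      have hm4 : f i₀ = 4 := by subst hm4'; omega
      refine ⟨?_, fun h => ?_⟩
      · rw [hm4]; norm_num
      · omega

end Cfsg.Agent.Techniques.LinePair.Count
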