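import Cfsg.Agent.Techniques.LinePair.Setup

/-!
A Sylow subgroup of order `p ^ 3`: coordinates, and normalizing elements built from two opposite shears on a
subgroup of order `p ^ 2`.
-/

set_option autoImplicit false

namespace Cfsg.Agent.Techniques.LinePair.Local

open Subgroup Setup
open scoped Pointwise
open scoped commutatorElement

variable {G : Type*} [Group G] {p : ℕ} [Fact p.Prime]

theorem exists_data [Finite G] (Q : Subgroup G) (hE : Cfsg.IsExtraspecial p Q) (hcard : Nat.card Q = p ^ 3)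
    (hexp : Monoid.exponent Q = p) : Nonempty (Data p Q) := by
  classical
  have hp := (Fact.out : p.Prime)
  obtain ⟨⟨-, -, hcomm⟩, hZ⟩ := hE
  have hex : ∀ u : Q, u ^ p = 1 := fun u => by rw [← hexp]; exact Monoid.pow_exponent_eq_one u
  have hne : ∃ x y : Q, ¬ Commute x y := by
    by_contra h
    push Not at h
    have : center Q = ⊤ := by
      rw [eq_top_iff]
      exact fun u _ => Subgroup.mem_center_iff.2 fun v => h v u
    rw [this, Subgroup.card_top, hcard] at hZ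
    exact absurd ((Nat.pow_eq_self_iff hp.one_lt).1 hZ) (by norm_num)
  obtain ⟨x, y, hxy⟩ := hne
  set z := ⁅x, y⁆ with hz
  have hzc : z ∈ center Q := by
    rw [← hcomm, _root_.commutator_def]
    exact Subgroup.commutator_mem_commutator (mem_top x) (mem_top y)
  have hz1 : z ≠ 1 := fun h => hxy (commutatorElement_eq_one_iff_mul_comm.1 h)
  have hzo : orderOf z = p := orderOf_eq_prime (hex z) hz1
  have hzp : zpowers z = center Q :=
    Subgroup.eq_of_le_of_card_ge (zpowers_le.2 hzc) (by rw [hZ, Nat.card_zpowers, hzo])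
  have hcen : ∀ u : Q, Commute u z := fun u => (Subgroup.mem_center_iff.1 hzc u)
  have hpow : ∀ (t u : Q), u ∈ zpowers t → ∃ i : ZMod p, u = t ^ i.val := by
    intro t u hu
    obtain ⟨k, rfl⟩ := Submonoid.mem_powers_iff u t |>.1 (mem_powers_iff_mem_zpowers.2 hu)
    exact ⟨(k : ZMod p), by rw [ZMod.val_natCast, ← pow_eq_pow_mod k (hex t)]⟩
  -- the abelian maximal subgroup
  set A := zpowers z ⊔ zpowers x with hA
  have hAab : ∀ u ∈ A, Commute u x := by
    have : A ≤ centralizer {x} := sup_le (zpowers_le.2 (mem_centralizer_singleton_iff.2 (hcen x).eq.symm))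
      (zpowers_le.2 (mem_centralizer_singleton_iff.2 rfl))
    exact fun u hu => (mem_centralizer_singleton_iff.1 (this hu))
  haveI hAn : A.Normal := ⟨fun a ha g => by
    have h1 : ⁅g, a⁆ ∈ A := le_sup_left (a := zpowers z) (by
      rw [hzp, ← hcomm, _root_.commutator_def]
      exact Subgroup.commutator_mem_commutator (mem_top g) (mem_top a))
    have := A.mul_mem h1 ha
    rwa [show ⁅g, a⁆ * a = g * a * g⁻¹ by rw [commutatorElement_def]; group] at this⟩
  have hxA : x ∈ A := le_sup_right (a := zpowers z) (mem_zpowers x)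
  have hyA : y ∉ A := fun h => hxy (hAab y h).symm
  have hzA : zpowers z < A := by
    refine lt_of_le_of_ne le_sup_left fun h => hxy ?_
    have : x ∈ center Q := by rw [← hzp, h]; exact hxA
    exact (Subgroup.mem_center_iff.1 this y).symm
  have hcA : p ^ 2 ≤ Nat.card A := by
    obtain ⟨k, hk, hkA⟩ := (Nat.dvd_prime_pow hp).1 (hcard ▸ Subgroup.card_subgroup_dvd_card A)
    have h1 : p < Nat.card A := by
      have h2 : Nat.card (zpowers z) = p := by rw [Nat.card_zpowers, hzo]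
      by_contra h
      push Not at h
      exact hzA.ne (Subgroup.eq_of_le_of_card_ge hzA.le (h2 ▸ h))
    rw [hkA] at h1 ⊢
    exact Nat.pow_le_pow_right hp.pos ((Nat.pow_lt_pow_iff_right hp.one_lt).1 (by rwa [pow_one]))
  have htop : A ⊔ zpowers y = ⊤ := by
    apply Subgroup.eq_top_of_card_eq
    obtain ⟨k, hk, hkB⟩ := (Nat.dvd_prime_pow hp).1 (hcard ▸ Subgroup.card_subgroup_dvd_card (A ⊔ zpowers y))
    have h1 : Nat.card A < Nat.card (A ⊔ zpowers y : Subgroup Q) := by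
      by_contra h
      push Not at h
      have := Subgroup.eq_of_le_of_card_ge (le_sup_left : A ≤ A ⊔ zpowers y) h
      exact hyA (this ▸ le_sup_right (a := A) (mem_zpowers y))
    rw [hkB] at h1 ⊢
    have := (Nat.pow_lt_pow_iff_right hp.one_lt).1 (lt_of_le_of_lt hcA h1)
    rw [hcard, show k = 3 by omega]
  refine ⟨{ x := x, y := y, z := z, hx := x.2, hy := y.2, hz := z.2
            exp := fun u hu => congrArg Subtype.val (hex ⟨u, hu⟩)
            ord := by rw [Subgroup.orderOf_coe, hzo]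
            cen := fun u hu => congrArg Subtype.val (hcen ⟨u, hu⟩).eq
            comm := rfl
            span := ?_, cenQ := ?_ }⟩
  · intro u hu
    haveI : (zpowers z).Normal := hzp ▸ inferInstance
    obtain ⟨a, ha, b, hb, hab⟩ := (Subgroup.mem_sup_of_normal_left (s := A) (t := zpowers y)).1
      (htop ▸ mem_top (⟨u, hu⟩ : Q))
    obtain ⟨c, hc, d, hd, hcd⟩ := (Subgroup.mem_sup_of_normal_left (s := zpowers z) (t := zpowers x)).1 ha
    obtain ⟨k, rfl⟩ := hpow z c hc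
    obtain ⟨i, rfl⟩ := hpow x d hd
    obtain ⟨j, rfl⟩ := hpow y b hb
    refine ⟨i, j, k, ?_⟩
    have e : (⟨u, hu⟩ : Q) = x ^ i.val * y ^ j.val * z ^ k.val := by
      rw [← hab, ← hcd, mul_assoc]
      exact ((hcen (x ^ i.val * y ^ j.val)).pow_right k.val).eq.symm
    exact congrArg Subtype.val e
  · intro u hu h
    have : (⟨u, hu⟩ : Q) ∈ center Q := Subgroup.mem_center_iff.2 fun v => Subtype.ext (h v v.2).eq.symm
    rw [← hzp] at this
    obtain ⟨k, hk⟩ := hpow z _ this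
    exact ⟨k, congrArg Subtype.val hk⟩

variable {Q : Subgroup G} (D : Data p Q)

theorem exists_shear {a : G} (ha : a ∈ Q) (hcd : cd D a ≠ 0) : ∃ b ∈ Q, b * a * b⁻¹ = D.z * a := by
  obtain ⟨v, hv⟩ : ∃ v : Fin 2 → ZMod p, v 0 * cd D a 1 - cd D a 0 * v 1 = 1 := by
    by_cases h0 : cd D a 0 = 0
    · have h1 : cd D a 1 ≠ 0 := fun h => hcd (funext fun i => by fin_cases i <;> simp [h0, h])
      exact ⟨![(cd D a 1)⁻¹, 0], by simp [inv_mul_cancel₀ h1]⟩
    · exact ⟨![0, -(cd D a 0)⁻¹], by simp [mul_inv_cancel₀ h0]⟩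
  refine ⟨el D v, el_mem D v, ?_⟩
  rw [commutator_eq D (el_mem D v) ha, cd_el, hv, pw_one]
  group

/-- The coordinates on the plane spanned by `z` and `a`. -/
def elA (z a : G) (i j : ZMod p) : G := pw z i * pw a j

theorem pw_mul_of_commute {z a : G} (h : Commute z a) (i : ZMod p) : pw (z * a) i = pw z i * pw a i :=
  h.mul_pow _

variable {z a : G}

theorem acts_E (hz : z ^ p = 1) (hc : Commute z a) {n : G} {c : ZMod p} (h1 : n * z * n⁻¹ = z)
    (h2 : n * a * n⁻¹ = pw z c * a) (i j : ZMod p) : n * elA z a i j * n⁻¹ = elA z a (i + c * j) j := by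
  rw [elA, ← conj_mul, pw_conj, pw_conj, h1, h2, pw_mul_of_commute (show Commute (pw z c) a from hc.pow_left _), ← pw_mul hz, ← mul_assoc,
    ← pw_add hz, elA]

theorem acts_F (ha : a ^ p = 1) (hc : Commute z a) {n : G} {c : ZMod p} (h1 : n * a * n⁻¹ = a)
    (h2 : n * z * n⁻¹ = z * pw a c) (i j : ZMod p) : n * elA z a i j * n⁻¹ = elA z a i (j + c * i) := by
  rw [elA, ← conj_mul, pw_conj, pw_conj, h1, h2, pw_mul_of_commute (show Commute z (pw a c) from hc.pow_right _), ← pw_mul ha, mul_assoc,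
    ← pw_add ha, elA, add_comm]

/-- The torus element. -/
theorem exists_torus (hz : z ^ p = 1) (ha : a ^ p = 1) (hc : Commute z a) (b g : G) (hb1 : b * z * b⁻¹ = z)
    (hb2 : b * a * b⁻¹ = z * a) (hg1 : g * a * g⁻¹ = a) (hg2 : g * z * g⁻¹ = z * a) (t : ZMod p) (ht : t ≠ 0) :
    ∃ n : G, n * z * n⁻¹ = pw z t ∧ n * a * n⁻¹ = pw a t⁻¹ := by
  have hbk : ∀ k : ℕ, b ^ k * z * (b ^ k)⁻¹ = z ∧ b ^ k * a * (b ^ k)⁻¹ = z ^ k * a := by
    intro k
    induction k with
    | zero => simp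
    | succ k ih =>
      refine ⟨?_, ?_⟩
      · calc b ^ (k + 1) * z * (b ^ (k + 1))⁻¹ = b * (b ^ k * z * (b ^ k)⁻¹) * b⁻¹ := by rw [pow_succ']; group
          _ = z := by rw [ih.1, hb1]
      · calc b ^ (k + 1) * a * (b ^ (k + 1))⁻¹ = b * (b ^ k * a * (b ^ k)⁻¹) * b⁻¹ := by rw [pow_succ']; group
          _ = (b * z * b⁻¹) ^ k * (b * a * b⁻¹) := by rw [ih.2, conj_pow]; group
          _ = _ := by rw [hb1, hb2, pow_succ, mul_assoc]
  have hgk : ∀ k : ℕ, g ^ k * a * (g ^ k)⁻¹ = a ∧ g ^ k * z * (g ^ k)⁻¹ = z * a ^ k := by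
    intro k
    induction k with
    | zero => simp
    | succ k ih =>
      refine ⟨?_, ?_⟩
      · calc g ^ (k + 1) * a * (g ^ (k + 1))⁻¹ = g * (g ^ k * a * (g ^ k)⁻¹) * g⁻¹ := by rw [pow_succ']; group
          _ = a := by rw [ih.1, hg1]
      · calc g ^ (k + 1) * z * (g ^ (k + 1))⁻¹ = g * (g ^ k * z * (g ^ k)⁻¹) * g⁻¹ := by rw [pow_succ']; group
          _ = (g * z * g⁻¹) * (g * a * g⁻¹) ^ k := by rw [ih.2, conj_pow]; group
          _ = _ := by rw [hg1, hg2, pow_succ', mul_assoc]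
  have hE : ∀ c i j : ZMod p, pw b c * elA z a i j * (pw b c)⁻¹ = elA z a (i + c * j) j := fun c i j =>
    acts_E hz hc (hbk c.val).1 (hbk c.val).2 i j
  have hF : ∀ c i j : ZMod p, pw g c * elA z a i j * (pw g c)⁻¹ = elA z a i (j + c * i) := fun c i j =>
    acts_F ha hc (hgk c.val).1 (hgk c.val).2 i j
  refine ⟨pw b t * (pw g (-t⁻¹) * (pw b t * (pw b (-1 : ZMod p) * (pw g (1 : ZMod p) * pw b (-1 : ZMod p))))), ?_, ?_⟩
  all_goals
    have hcomp : ∀ (n m w : G), n * m * w * (n * m)⁻¹ = n * (m * w * m⁻¹) * n⁻¹ := fun n m w => by group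
  · have e : z = elA z a (1 : ZMod p) 0 := by rw [elA, pw_one, pw_zero, mul_one]
    conv_lhs => rw [e, hcomp, hcomp, hcomp, hcomp, hcomp, hE, hF, hE, hE, hF, hE]
    have e' : pw z t = elA z a t 0 := by rw [elA, pw_zero, mul_one]
    rw [e']
    congr 1 <;> field_simp <;> ring
  · have e : a = elA z a (0 : ZMod p) 1 := by rw [elA, pw_one, pw_zero, one_mul]
    conv_lhs => rw [e, hcomp, hcomp, hcomp, hcomp, hcomp, hE, hF, hE, hE, hF, hE]
    have e' : pw a t⁻¹ = elA z a 0 t⁻¹ := by rw [elA, pw_zero, one_mul]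
    rw [e']
    congr 1 <;> field_simp <;> ring

/-- A normalizing element acting as `t` on the centre and as `1/t` on a line. -/
theorem exists_normalizing [Finite G] (P : Sylow p G) (D : Data p (P : Subgroup G)) {a : G} (ha : a ∈ (P : Subgroup G))
    (hcd : cd D a ≠ 0) (g : G) (hg1 : g * a * g⁻¹ = a) (hg2 : g * D.z * g⁻¹ = D.z * a) (t : ZMod p) (ht : t ≠ 0) :
    ∃ n : Subgroup.normalizer ((P : Subgroup G) : Set G),
      (mt D n.1).det = t ∧ Matrix.mulVec (mt D n.1) (cd D a) = t⁻¹ • cd D a := by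
  classical
  have hz : D.z ^ p = 1 := D.exp _ D.hz
  have hap : a ^ p = 1 := D.exp _ ha
  have hc : Commute D.z a := (D.cen _ ha).symm
  obtain ⟨b, hb, hb2⟩ := exists_shear D ha hcd
  have hb1 : b * D.z * b⁻¹ = D.z := by rw [(D.cen _ hb).eq, mul_inv_cancel_right]
  obtain ⟨n0, hn1, hn2⟩ := exists_torus hz hap hc b g hb1 hb2 hg1 hg2 t ht
  let U : Subgroup G :=
    { carrier := {u | u * D.z * u⁻¹ = D.z ∧ ∃ j : ZMod p, u * a * u⁻¹ = pw D.z j * a}
      one_mem' := ⟨by group, 0, by rw [pw_zero]; group⟩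
      mul_mem' := by
        rintro u w ⟨hu, j, hj⟩ ⟨hw, k, hk⟩
        refine ⟨?_, j + k, ?_⟩
        · calc u * w * D.z * (u * w)⁻¹ = u * (w * D.z * w⁻¹) * u⁻¹ := by group
            _ = D.z := by rw [hw, hu]
        · calc u * w * a * (u * w)⁻¹ = u * (w * a * w⁻¹) * u⁻¹ := by group
            _ = (u * pw D.z k * u⁻¹) * (u * a * u⁻¹) := by rw [hk]; group
            _ = _ := by rw [pw_conj, hu, hj, add_comm, pw_add hz, mul_assoc]
      inv_mem' := by
        rintro u ⟨hu, j, hj⟩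
        have hu' : u⁻¹ * D.z * u⁻¹⁻¹ = D.z := by
          have h' : u⁻¹ * (u * D.z * u⁻¹) * u = D.z := by group
          rw [hu] at h'
          rwa [inv_inv]
        refine ⟨hu', -j, ?_⟩
        have e : a = pw D.z (-j) * (u * a * u⁻¹) := by
          rw [hj, ← mul_assoc, ← pw_add hz, neg_add_cancel, pw_zero, one_mul]
        calc u⁻¹ * a * u⁻¹⁻¹ = u⁻¹ * (pw D.z (-j) * (u * a * u⁻¹)) * u⁻¹⁻¹ :=
              congrArg (fun w => u⁻¹ * w * u⁻¹⁻¹) e
          _ = (u⁻¹ * pw D.z (-j) * u⁻¹⁻¹) * a := by group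
          _ = _ := by rw [pw_conj, hu'] }
  have hPU : (P : Subgroup G) ≤ U := fun u hu =>
    ⟨by rw [(D.cen _ hu).eq, mul_inv_cancel_right],
      cd D u 0 * cd D a 1 - cd D a 0 * cd D u 1, by rw [commutator_eq D hu ha]; group⟩
  have hn0 : ∀ u ∈ U, n0 * u * n0⁻¹ ∈ U := by
    rintro u ⟨hu, j, hj⟩
    have hzi : n0⁻¹ * D.z * n0 = pw D.z t⁻¹ := by
      have : D.z = n0 * pw D.z t⁻¹ * n0⁻¹ := by rw [pw_conj, hn1, ← pw_mul hz, mul_inv_cancel₀ ht, pw_one]
      conv_lhs => rw [this]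
      simp only [mul_assoc, inv_mul_cancel_left, inv_mul_cancel, mul_one]
    have hai : n0⁻¹ * a * n0 = pw a t := by
      have : a = n0 * pw a t * n0⁻¹ := by rw [pw_conj, hn2, ← pw_mul hap, inv_mul_cancel₀ ht, pw_one]
      conv_lhs => rw [this]
      simp only [mul_assoc, inv_mul_cancel_left, inv_mul_cancel, mul_one]
    refine ⟨?_, j * t * t, ?_⟩
    · calc n0 * u * n0⁻¹ * D.z * (n0 * u * n0⁻¹)⁻¹ = n0 * (u * (n0⁻¹ * D.z * n0) * u⁻¹) * n0⁻¹ := by group
        _ = n0 * (n0⁻¹ * D.z * n0) * n0⁻¹ := by rw [hzi, pw_conj u, hu]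
        _ = D.z := by group
    · calc n0 * u * n0⁻¹ * a * (n0 * u * n0⁻¹)⁻¹ = n0 * (u * (n0⁻¹ * a * n0) * u⁻¹) * n0⁻¹ := by group
        _ = n0 * (pw D.z (j * t) * pw a t) * n0⁻¹ := by
          rw [hai, pw_conj u, hj, pw_mul_of_commute (show Commute (pw D.z j) a from hc.pow_left _), pw_mul hz]
        _ = pw (n0 * D.z * n0⁻¹) (j * t) * pw (n0 * a * n0⁻¹) t := by rw [← conj_mul, pw_conj, pw_conj]
        _ = _ := by
          rw [hn1, hn2, ← pw_mul hz, ← pw_mul hap, inv_mul_cancel₀ ht, pw_one, mul_comm t (j * t)]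
  let P' : Sylow p G := n0 • P
  have hP'U : (P' : Subgroup G) ≤ U := by
    intro w hw
    rw [Sylow.coe_subgroup_smul] at hw
    obtain ⟨x, hx, rfl⟩ := hw
    exact hn0 x (hPU hx)
  obtain ⟨c, hcP⟩ := MulAction.exists_smul_eq U (P'.subtype hP'U) (P.subtype hPU)
  have hmem : ∀ w ∈ (P : Subgroup G), (c.1 * n0) * w * (c.1 * n0)⁻¹ ∈ (P : Subgroup G) := by
    intro w hw
    have h1 : n0 * w * n0⁻¹ ∈ (P' : Subgroup G) := by
      rw [Sylow.coe_subgroup_smul]
      exact Subgroup.smul_mem_pointwise_smul w (MulAut.conj n0) _ hw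
    let q : U := ⟨n0 * w * n0⁻¹, hP'U h1⟩
    have h2 : c * q * c⁻¹ ∈ ((c • P'.subtype hP'U : Sylow p U) : Subgroup U) := by
      rw [Sylow.coe_subgroup_smul]
      exact Subgroup.smul_mem_pointwise_smul q (MulAut.conj c) _ h1
    rw [hcP] at h2
    have h3 : c.1 * (n0 * w * n0⁻¹) * c.1⁻¹ ∈ (P : Subgroup G) := h2
    rwa [show c.1 * n0 * w * (c.1 * n0)⁻¹ = c.1 * (n0 * w * n0⁻¹) * c.1⁻¹ by group]
  have hn : c.1 * n0 ∈ Subgroup.normalizer ((P : Subgroup G) : Set G) := by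
    rw [Subgroup.mem_normalizer_iff]
    refine fun w => ⟨hmem w, fun hw => ?_⟩
    let f : ↥(P : Subgroup G) → ↥(P : Subgroup G) := fun q => ⟨c.1 * n0 * q.1 * (c.1 * n0)⁻¹, hmem q.1 q.2⟩
    have hf : Function.Injective f := fun q r h => Subtype.ext
      (mul_left_cancel (mul_right_cancel (congrArg Subtype.val h : c.1 * n0 * q.1 * (c.1 * n0)⁻¹ = _)))
    obtain ⟨q, hq⟩ := Finite.injective_iff_surjective.mp hf ⟨_, hw⟩
    have h' : c.1 * n0 * q.1 * (c.1 * n0)⁻¹ = c.1 * n0 * w * (c.1 * n0)⁻¹ := congrArg Subtype.val hq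
    rw [← mul_left_cancel (mul_right_cancel h')]
    exact q.2
  obtain ⟨hcz, j, hcj⟩ := c.2
  refine ⟨⟨c.1 * n0, hn⟩, ?_, ?_⟩
  · apply pw_inj D.ord
    rw [← det_mt D _ hn]
    calc c.1 * n0 * D.z * (c.1 * n0)⁻¹ = c.1 * (n0 * D.z * n0⁻¹) * c.1⁻¹ := by group
      _ = pw D.z t := by rw [hn1, pw_conj, hcz]
  · rw [← cd_conj D _ hn (normalizer_z D _ hn) ha]
    have e : c.1 * n0 * a * (c.1 * n0)⁻¹ = pw (pw D.z j * a) t⁻¹ := by
      calc c.1 * n0 * a * (c.1 * n0)⁻¹ = c.1 * (n0 * a * n0⁻¹) * c.1⁻¹ := by group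
        _ = _ := by rw [hn2, pw_conj, hcj]
    rw [e, cd_pw D (Subgroup.mul_mem _ (pw_mem D.hz _) ha), cd_mul D (pw_mem D.hz _) ha, cd_pwz, zero_add]

end Cfsg.Agent.Techniques.LinePair.Local
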