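import Cfsg.Agent.Techniques.LinePair.Local

/-!
At most six lines of `P/Z(P)` carry both shears, for a Sylow subgroup `P` of order `p ^ 3`; at most two for
large `p`.
-/

set_option autoImplicit false

namespace Cfsg.Agent.Techniques.LinePair.Main

open Matrix Setup

variable {G : Type*} [Group G] [Finite G] {p : ℕ} [Fact p.Prime]

theorem card_le (P : Sylow p G) (D : Data p (P : Subgroup G)) {ι : Type*} [Fintype ι] (a : ι → G)
    (ha : ∀ i, a i ∈ (P : Subgroup G)) (hcd : ∀ i, cd D (a i) ≠ 0)
    (hinj : ∀ i j, ∀ c : ZMod p, cd D (a i) = c • cd D (a j) → i = j)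
    (hg : ∀ i, ∃ g : G, g * a i * g⁻¹ = a i ∧ g * D.z * g⁻¹ = D.z * a i)
    (m : ℕ) (hm : m = 4 ∨ 6 ≤ m) (hmd : ∀ k : ℕ, p - 1 ∣ 3 * k → m ∣ k) :
    Fintype.card ι ≤ 6 ∧ (6 ≤ m → Fintype.card ι ≤ 2) := by
  classical
  let K := AlgebraicClosure (ZMod p)
  let φ : ZMod p →+* K := algebraMap (ZMod p) K
  let r : Subgroup.normalizer ((P : Subgroup G) : Set G) →* GL (Fin 2) K :=
    (Matrix.GeneralLinearGroup.map φ).comp (rho D)
  haveI : Finite r.range := Finite.of_surjective r.rangeRestrict r.rangeRestrict_surjective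
  have hchar : (Nat.card r.range : K) ≠ 0 := by
    intro h
    haveI : CharP K p := charP_of_injective_ringHom φ.injective p
    rw [CharP.cast_eq_zero_iff K p] at h
    let N := Subgroup.normalizer ((P : Subgroup G) : Set G)
    let PN : Sylow p N := P.subtype Subgroup.le_normalizer
    have hle : (PN : Subgroup N) ≤ r.ker := fun u hu => by
      rw [MonoidHom.mem_ker]
      show Matrix.GeneralLinearGroup.map φ (rho D u) = 1
      rw [rho_self D u hu, map_one]
    rw [← Subgroup.index_ker] at h
    exact PN.not_dvd_index (h.trans (Subgroup.index_dvd_of_le hle))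
  let v : ι → Fin 2 → K := fun i => φ ∘ cd D (a i)
  have hv : ∀ i, v i ≠ 0 := fun i h => hcd i (funext fun x => φ.injective (by
    have := congrFun h x
    simpa [v] using this))
  have hvinj : Function.Injective fun i => Submodule.span K {v i} := by
    intro i j hij
    obtain ⟨c, hc⟩ := Submodule.mem_span_singleton.1
      (show v i ∈ Submodule.span K {v j} from (show Submodule.span K {v i} = Submodule.span K {v j} from hij).le (Submodule.mem_span_singleton_self _))
    obtain ⟨x, hx⟩ : ∃ x, cd D (a j) x ≠ 0 := by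
      by_contra h
      push Not at h
      exact hcd j (funext h)
    refine hinj i j (cd D (a i) x / cd D (a j) x) (funext fun y => φ.injective ?_)
    have h1 := congrFun hc x
    have h2 := congrFun hc y
    simp only [v, Pi.smul_apply, Function.comp_apply, smul_eq_mul] at h1 h2
    rw [Pi.smul_apply, smul_eq_mul, map_mul, map_div₀, ← h1, ← h2,
      mul_div_cancel_right₀ _ ((map_ne_zero φ).2 hx)]
  obtain ⟨t, htg⟩ := IsCyclic.exists_generator (α := (ZMod p)ˣ)
  have hto : orderOf t = p - 1 := by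
    rw [orderOf_eq_card_of_forall_mem_zpowers htg, Nat.card_eq_fintype_card, ZMod.card_units]
  refine Action.card_lines_le r.range.subtype hchar v hv hvinj m hm fun i => ?_
  obtain ⟨g, hg1, hg2⟩ := hg i
  obtain ⟨n, hdet, hvec⟩ := Local.exists_normalizing P D (ha i) (hcd i) g hg1 hg2 (t : ZMod p) t.ne_zero
  refine ⟨⟨r n, n, rfl⟩, ⟨φ (t : ZMod p)⁻¹, ?_⟩, fun k hk => hmd k ?_⟩
  · show (r n : Matrix (Fin 2) (Fin 2) K) *ᵥ v i = _
    have hr : (r n : Matrix (Fin 2) (Fin 2) K) = (mt D n.1).map φ := rfl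
    rw [hr]
    funext x
    rw [← RingHom.map_mulVec]
    rw [hvec]
    simp only [v, Pi.smul_apply, smul_eq_mul, map_mul, Function.comp_apply]
  · obtain ⟨c, hc⟩ := hk
    have hr : ((r n) ^ k : GL (Fin 2) K).1 = ((mt D n.1) ^ k).map φ := by
      rw [Units.val_pow_eq_pow_val, Matrix.map_pow]
      rfl
    have hs : ∀ w, ((mt D n.1) ^ k).map φ *ᵥ w = c • w := fun w => by
      rw [← hr]
      exact hc w
    have hm' : ((mt D n.1) ^ k).map φ = c • (1 : Matrix (Fin 2) (Fin 2) K) := by
      refine Matrix.ext fun x y => ?_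
      have := congrFun (hs (Pi.single y 1)) x
      rw [Matrix.mulVec_single_one] at this
      rw [Matrix.smul_apply, Matrix.one_apply]
      exact this.trans (by rw [Pi.smul_apply, Pi.single_apply])
    have hdk : φ ((t : ZMod p) ^ k) = c ^ 2 := by
      rw [← hdet, ← Matrix.det_pow, RingHom.map_det, RingHom.mapMatrix_apply, hm', Matrix.det_smul, Matrix.det_one,
        mul_one, Fintype.card_fin]
    have hvk : ((mt D n.1) ^ k) *ᵥ cd D (a i) = ((t : ZMod p)⁻¹) ^ k • cd D (a i) := by
      clear hr hs hm' hdk hc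
      induction k with
      | zero => rw [pow_zero, pow_zero, Matrix.one_mulVec, one_smul]
      | succ k ih => rw [pow_succ', ← Matrix.mulVec_mulVec, ih, Matrix.mulVec_smul, hvec, smul_smul, pow_succ]
    obtain ⟨x, hx⟩ : ∃ x, cd D (a i) x ≠ 0 := by
      by_contra h
      push Not at h
      exact hcd i (funext h)
    have hck : φ (((t : ZMod p)⁻¹) ^ k) = c := by
      have h1 := congrFun (hs (v i)) x
      rw [show v i = φ ∘ cd D (a i) from rfl, ← RingHom.map_mulVec, hvk] at h1
      simp only [Pi.smul_apply, Function.comp_apply, smul_eq_mul, map_mul] at h1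
      exact mul_right_cancel₀ ((map_ne_zero φ).2 hx) h1
    rw [← hck, ← map_pow] at hdk
    have h3 : (t : ZMod p) ^ (3 * k) = 1 := by
      have h := φ.injective hdk
      rw [inv_pow, inv_pow] at h
      have h4 := congrArg (· * ((t : ZMod p) ^ k) ^ 2) h
      simp only [inv_mul_cancel₀ (pow_ne_zero 2 (pow_ne_zero k t.ne_zero))] at h4
      rw [← h4]
      ring
    rw [← hto]
    exact orderOf_dvd_of_pow_eq_one (Units.ext (by simpa using h3))

omit [Fact p.Prime] in
/-- The arithmetic of the bound. -/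
theorem large (hp : 17 ≤ p) : ∃ m, 6 ≤ m ∧ ∀ k : ℕ, p - 1 ∣ 3 * k → m ∣ k := by
  by_cases h : 3 ∣ p - 1
  · obtain ⟨m, hm⟩ := h
    exact ⟨m, by omega, fun k hk => by rw [hm] at hk; exact Nat.dvd_of_mul_dvd_mul_left (by norm_num) hk⟩
  · exact ⟨p - 1, by omega, fun k hk =>
      (Nat.Coprime.dvd_of_dvd_mul_left ((Nat.prime_three.coprime_iff_not_dvd.2 h).symm) hk)⟩

end Cfsg.Agent.Techniques.LinePair.Main
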