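import Cfsg.Agent.Techniques.LinePair.Action
import Cfsg.Agent.Lib.Coprime.Basic
import Cfsg.Agent.Solvable.Basics
import Cfsg.Prelude.Def_Transfer

/-!
An extraspecial Sylow subgroup of order `p ^ 3` and exponent `p`: coordinates modulo the centre, and the plane
representation of its normalizer.
-/

set_option autoImplicit false

namespace Cfsg.Agent.Techniques.LinePair.Setup

open Matrix
open scoped commutatorElement

variable {G : Type*} [Group G] {p : ℕ} [Fact p.Prime]

/-- A power with exponent modulo `p`. -/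
def pw (x : G) (i : ZMod p) : G := x ^ i.val

theorem pw_natCast {x : G} (hx : x ^ p = 1) (n : ℕ) : pw x (n : ZMod p) = x ^ n := by
  rw [pw, ZMod.val_natCast, ← pow_eq_pow_mod n hx]

theorem pw_add {x : G} (hx : x ^ p = 1) (i j : ZMod p) : pw x (i + j) = pw x i * pw x j := by
  conv_lhs => rw [← ZMod.natCast_zmod_val i, ← ZMod.natCast_zmod_val j, ← Nat.cast_add, pw_natCast hx, pow_add]
  rfl

theorem pw_zero (x : G) : pw x (0 : ZMod p) = 1 := by rw [pw, ZMod.val_zero, pow_zero]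

theorem pw_one (x : G) : pw x (1 : ZMod p) = x := by rw [pw, ZMod.val_one, pow_one]

theorem pw_mul {x : G} (hx : x ^ p = 1) (i j : ZMod p) : pw x (i * j) = pw (pw x i) j := by
  conv_lhs => rw [← ZMod.natCast_zmod_val i, ← ZMod.natCast_zmod_val j, ← Nat.cast_mul, pw_natCast hx, pow_mul]
  rfl

theorem pw_pow {x : G} (hx : x ^ p = 1) (i : ZMod p) : pw x i ^ p = 1 := by
  rw [pw, ← pow_mul, mul_comm, pow_mul, hx, one_pow]

theorem pw_neg {x : G} (hx : x ^ p = 1) (i : ZMod p) : pw x (-i) = (pw x i)⁻¹ :=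
  eq_inv_of_mul_eq_one_left (by rw [← pw_add hx, neg_add_cancel, pw_zero])

theorem pw_inj {x : G} (hx : orderOf x = p) {i j : ZMod p} (h : pw x i = pw x j) : i = j := by
  apply ZMod.val_injective
  have := pow_eq_pow_iff_modEq.1 h
  rw [hx] at this
  exact Nat.ModEq.eq_of_lt_of_lt this (ZMod.val_lt i) (ZMod.val_lt j)

theorem pw_commute {x y : G} (h : Commute x y) (i j : ZMod p) : Commute (pw x i) (pw y j) := h.pow_pow _ _

theorem pw_conj (g x : G) (i : ZMod p) : g * pw x i * g⁻¹ = pw (g * x * g⁻¹) i := by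
  rw [pw, pw, conj_pow]

/-- The data: a subgroup `Q` with generators `x`, `y`, and central commutator `z`. -/
structure Data (p : ℕ) (Q : Subgroup G) where
  x : G
  y : G
  z : G
  hx : x ∈ Q
  hy : y ∈ Q
  hz : z ∈ Q
  exp : ∀ u ∈ Q, u ^ p = 1
  ord : orderOf z = p
  cen : ∀ u ∈ Q, Commute u z
  comm : ⁅x, y⁆ = z
  span : ∀ u ∈ Q, ∃ i j k : ZMod p, u = pw x i * pw y j * pw z k
  cenQ : ∀ u ∈ Q, (∀ v ∈ Q, Commute u v) → ∃ k : ZMod p, u = pw z k

variable {Q : Subgroup G} (D : Data p Q)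

theorem pw_mem {Q : Subgroup G} {u : G} (hu : u ∈ Q) (i : ZMod p) : pw u i ∈ Q := Q.pow_mem hu _

theorem swap (i j : ZMod p) : pw D.x i * pw D.y j = pw D.z (i * j) * (pw D.y j * pw D.x i) := by
  have hzp : D.z ^ p = 1 := D.exp _ D.hz
  have h1 : ∀ n : ℕ, D.x ^ n * D.y = D.z ^ n * (D.y * D.x ^ n) := by
    intro n
    induction n with
    | zero => simp
    | succ n ih =>
      have hxy : D.x * D.y = D.z * (D.y * D.x) := by
        conv_rhs => rw [← D.comm, commutatorElement_def]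
        group
      have hc : Commute D.x (D.z ^ n) := (D.cen _ D.hx).pow_right n
      calc D.x ^ (n + 1) * D.y = D.x * (D.x ^ n * D.y) := by rw [pow_succ']; group
        _ = D.x * D.z ^ n * (D.y * D.x ^ n) := by rw [ih]; group
        _ = D.z ^ n * (D.x * D.y) * D.x ^ n := by rw [hc.eq]; group
        _ = D.z ^ n * (D.z * (D.y * D.x)) * D.x ^ n := by rw [hxy]
        _ = _ := by rw [pow_succ, pow_succ']; group
  have h2 : ∀ n k : ℕ, D.x ^ n * D.y ^ k = D.z ^ (n * k) * (D.y ^ k * D.x ^ n) := by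
    intro n k
    induction k with
    | zero => simp
    | succ k ih =>
      have hc : Commute (D.y ^ k) (D.z ^ n) := ((D.cen _ D.hy).pow_left k).pow_right n
      calc D.x ^ n * D.y ^ (k + 1) = D.x ^ n * D.y ^ k * D.y := by rw [pow_succ]; group
        _ = D.z ^ (n * k) * D.y ^ k * (D.x ^ n * D.y) := by rw [ih]; group
        _ = D.z ^ (n * k) * (D.y ^ k * D.z ^ n) * (D.y * D.x ^ n) := by rw [h1]; group
        _ = D.z ^ (n * k) * (D.z ^ n * D.y ^ k) * (D.y * D.x ^ n) := by rw [hc.eq]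
        _ = _ := by rw [Nat.mul_succ, pow_add, pow_succ]; group
  have e : pw D.z (i * j) = D.z ^ (i.val * j.val) := by
    rw [← pw_natCast hzp, Nat.cast_mul, ZMod.natCast_zmod_val, ZMod.natCast_zmod_val]
  rw [e]
  exact h2 i.val j.val

/-- The element with given coordinates. -/
def el (v : Fin 2 → ZMod p) : G := pw D.x (v 0) * pw D.y (v 1)

theorem el_mem (v : Fin 2 → ZMod p) : el D v ∈ Q := Q.mul_mem (pw_mem D.hx _) (pw_mem D.hy _)

theorem el_mul (v w : Fin 2 → ZMod p) : el D v * el D w = el D (v + w) * pw D.z (-(w 0 * v 1)) := by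
  have hzp : D.z ^ p = 1 := D.exp _ D.hz
  have hs : pw D.y (v 1) * pw D.x (w 0) = pw D.z (-(w 0 * v 1)) * (pw D.x (w 0) * pw D.y (v 1)) := by
    rw [swap D, ← mul_assoc (pw D.z (-(w 0 * v 1))), ← pw_add hzp, neg_add_cancel, pw_zero, one_mul]
  have hc : ∀ u ∈ Q, Commute u (pw D.z (-(w 0 * v 1))) := fun u hu => (D.cen u hu).pow_right _
  simp only [el, Pi.add_apply, pw_add (D.exp _ D.hx), pw_add (D.exp _ D.hy)]
  calc pw D.x (v 0) * pw D.y (v 1) * (pw D.x (w 0) * pw D.y (w 1))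
      = pw D.x (v 0) * (pw D.y (v 1) * pw D.x (w 0)) * pw D.y (w 1) := by group
    _ = pw D.x (v 0) * pw D.z (-(w 0 * v 1)) * (pw D.x (w 0) * pw D.y (v 1) * pw D.y (w 1)) := by rw [hs]; group
    _ = pw D.z (-(w 0 * v 1)) * (pw D.x (v 0) * pw D.x (w 0) * (pw D.y (v 1) * pw D.y (w 1))) := by
      rw [(hc _ (pw_mem D.hx _)).eq]; group
    _ = _ := (hc _ (Q.mul_mem (Q.mul_mem (pw_mem D.hx _) (pw_mem D.hx _)) (Q.mul_mem (pw_mem D.hy _) (pw_mem D.hy _)))).eq.symm

theorem exists_coord {u : G} (hu : u ∈ Q) : ∃ v : Fin 2 → ZMod p, ∃ k : ZMod p, u = el D v * pw D.z k := by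
  obtain ⟨i, j, k, h⟩ := D.span u hu
  exact ⟨![i, j], k, by simpa [el] using h⟩

theorem coord_unique {v w : Fin 2 → ZMod p} {k l : ZMod p} (h : el D v * pw D.z k = el D w * pw D.z l) : v = w := by
  have hzp : D.z ^ p = 1 := D.exp _ D.hz
  -- commutators with `x` and `y` determine the coordinates
  have hx : ∀ (u : Fin 2 → ZMod p) (k : ZMod p),
      el D u * pw D.z k * D.y = pw D.z (u 0) * (D.y * (el D u * pw D.z k)) := by
    intro u k
    have h0 := swap D (u 0) 1
    rw [mul_one, pw_one] at h0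
    have hyy : Commute (pw D.y (u 1)) D.y := (Commute.refl D.y).pow_left _
    calc el D u * pw D.z k * D.y = pw D.x (u 0) * (pw D.y (u 1) * (pw D.z k * D.y)) := by simp only [el]; group
      _ = pw D.x (u 0) * (pw D.y (u 1) * D.y) * pw D.z k := by 
        have hyz : D.y * pw D.z k = pw D.z k * D.y := (D.cen _ D.hy).pow_right k.val
        rw [← hyz]; group
      _ = (pw D.x (u 0) * D.y) * pw D.y (u 1) * pw D.z k := by rw [hyy.eq]; group
      _ = _ := by rw [h0]; simp only [el]; group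
  have hy : ∀ (u : Fin 2 → ZMod p) (k : ZMod p),
      D.x * (el D u * pw D.z k) = pw D.z (u 1) * (el D u * pw D.z k * D.x) := by
    intro u k
    have h0 := swap D 1 (u 1)
    rw [one_mul, pw_one] at h0
    have hxx : Commute D.x (pw D.x (u 0)) := (Commute.refl D.x).pow_right _
    have hzc : Commute (pw D.x (u 0)) (pw D.z (u 1)) := ((D.cen _ D.hx).pow_left _).pow_right _
    calc D.x * (el D u * pw D.z k) = (D.x * pw D.x (u 0)) * pw D.y (u 1) * pw D.z k := by simp only [el]; group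
      _ = pw D.x (u 0) * (D.x * pw D.y (u 1)) * pw D.z k := by rw [hxx.eq]; group
      _ = pw D.x (u 0) * pw D.z (u 1) * (pw D.y (u 1) * (D.x * pw D.z k)) := by rw [h0]; group
      _ = pw D.z (u 1) * pw D.x (u 0) * (pw D.y (u 1) * (pw D.z k * D.x)) := by
        have hxz : D.x * pw D.z k = pw D.z k * D.x := (D.cen _ D.hx).pow_right k.val
        rw [hzc.eq, hxz]
      _ = _ := by simp only [el]; group
  have e0 := hx v k
  rw [h, hx w l] at e0
  have e1 := hy v k
  rw [h, hy w l] at e1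
  funext i
  fin_cases i
  · exact (pw_inj D.ord (mul_right_cancel e0)).symm
  · exact (pw_inj D.ord (mul_right_cancel e1)).symm

/-- The coordinates of an element of `Q`. -/
noncomputable def cd (u : G) : Fin 2 → ZMod p := by
  classical
  exact if h : u ∈ Q then (exists_coord D h).choose else 0

theorem cd_spec {u : G} (hu : u ∈ Q) : ∃ k : ZMod p, u = el D (cd D u) * pw D.z k := by
  rw [cd, dif_pos hu]
  exact (exists_coord D hu).choose_spec

theorem cd_eq {u : G} (hu : u ∈ Q) {v : Fin 2 → ZMod p} {k : ZMod p} (h : u = el D v * pw D.z k) : cd D u = v := by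
  obtain ⟨l, hl⟩ := cd_spec D hu
  exact coord_unique D (hl.symm.trans h)

theorem cd_el (v : Fin 2 → ZMod p) : cd D (el D v) = v :=
  cd_eq D (el_mem D v) (k := 0) (by rw [pw_zero, mul_one])

theorem cd_pwz (k : ZMod p) : cd D (pw D.z k) = 0 :=
  cd_eq D (pw_mem D.hz k) (k := k) (by simp [el, pw_zero])

theorem cd_mul {u w : G} (hu : u ∈ Q) (hw : w ∈ Q) : cd D (u * w) = cd D u + cd D w := by
  have hzp : D.z ^ p = 1 := D.exp _ D.hz
  obtain ⟨k, hk⟩ := cd_spec D hu
  obtain ⟨l, hl⟩ := cd_spec D hw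
  refine cd_eq D (Q.mul_mem hu hw) (k := -(cd D w 0 * cd D u 1) + (k + l)) ?_
  have hc : Commute (el D (cd D w)) (pw D.z k) := (D.cen _ (el_mem D _)).pow_right _
  conv_lhs => rw [hk, hl]
  calc el D (cd D u) * pw D.z k * (el D (cd D w) * pw D.z l)
      = el D (cd D u) * (pw D.z k * el D (cd D w)) * pw D.z l := by group
    _ = (el D (cd D u) * el D (cd D w)) * (pw D.z k * pw D.z l) := by rw [← hc.eq]; group
    _ = _ := by rw [el_mul, pw_add hzp, pw_add hzp]; group

theorem cd_one : cd D (1 : G) = 0 := by rw [← pw_zero D.z (p := p)]; exact cd_pwz D 0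

theorem cd_pw {u : G} (hu : u ∈ Q) (i : ZMod p) : cd D (pw u i) = i • cd D u := by
  have h : ∀ n : ℕ, cd D (u ^ n) = (n : ZMod p) • cd D u := by
    intro n
    induction n with
    | zero => rw [pow_zero, cd_one, Nat.cast_zero, zero_smul]
    | succ n ih => rw [pow_succ, cd_mul D (Q.pow_mem hu n) hu, ih, Nat.cast_succ, add_smul, one_smul]
  rw [pw, h, ZMod.natCast_zmod_val]

/-- The commutator is the determinant of the coordinates. -/
theorem commutator_eq {u w : G} (hu : u ∈ Q) (hw : w ∈ Q) :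
    u * w = pw D.z (cd D u 0 * cd D w 1 - cd D w 0 * cd D u 1) * (w * u) := by
  have hzp : D.z ^ p = 1 := D.exp _ D.hz
  obtain ⟨k, hk⟩ := cd_spec D hu
  obtain ⟨l, hl⟩ := cd_spec D hw
  set a := cd D u
  set b := cd D w
  have hc : ∀ (v : Fin 2 → ZMod p) (i : ZMod p), Commute (el D v) (pw D.z i) := fun v i => (D.cen _ (el_mem D _)).pow_right _
  have e : ∀ (v v' : Fin 2 → ZMod p) (i i' : ZMod p), el D v * pw D.z i * (el D v' * pw D.z i') =
      el D (v + v') * pw D.z (-(v' 0 * v 1) + i + i') := by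
    intro v v' i i'
    calc el D v * pw D.z i * (el D v' * pw D.z i') = el D v * (pw D.z i * el D v') * pw D.z i' := by group
      _ = (el D v * el D v') * (pw D.z i * pw D.z i') := by rw [← (hc v' i).eq]; group
      _ = _ := by rw [el_mul, pw_add hzp, pw_add hzp]; group
  rw [hk, hl, e, e, ← mul_assoc, ← (hc (b + a) _).eq, mul_assoc, ← pw_add hzp, add_comm b a]
  congr 2
  ring

theorem cd_eq_zero {u : G} (hu : u ∈ Q) (h : cd D u = 0) : ∃ k : ZMod p, u = pw D.z k := by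
  obtain ⟨k, hk⟩ := cd_spec D hu
  refine ⟨k, hk.trans ?_⟩
  rw [h]
  simp [el, pw_zero]

/-- The matrix of a normalizing element. -/
noncomputable def mt (n : G) : Matrix (Fin 2) (Fin 2) (ZMod p) :=
  Matrix.of fun r c => if c = 0 then cd D (n * D.x * n⁻¹) r else cd D (n * D.y * n⁻¹) r

theorem cd_conj (n : G) (hn : n ∈ Subgroup.normalizer (Q : Set G)) (hnz : ∃ t : ZMod p, n * D.z * n⁻¹ = pw D.z t)
    {u : G} (hu : u ∈ Q) : cd D (n * u * n⁻¹) = mt D n *ᵥ cd D u := by
  have hmem : ∀ w ∈ Q, n * w * n⁻¹ ∈ Q := fun w hw => (Subgroup.mem_normalizer_iff.mp hn w).mp hw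
  obtain ⟨k, hk⟩ := cd_spec D hu
  obtain ⟨t, ht⟩ := hnz
  have e : n * u * n⁻¹ = pw (n * D.x * n⁻¹) (cd D u 0) * pw (n * D.y * n⁻¹) (cd D u 1) * pw (pw D.z t) k := by
    conv_lhs => rw [hk]
    rw [← ht, ← pw_conj, ← pw_conj, ← pw_conj]
    simp only [el]
    group
  have h1 : pw (n * D.x * n⁻¹) (cd D u 0) ∈ Q := pw_mem (hmem _ D.hx) _
  have h2 : pw (n * D.y * n⁻¹) (cd D u 1) ∈ Q := pw_mem (hmem _ D.hy) _
  conv_lhs => rw [e]
  rw [cd_mul D (Q.mul_mem h1 h2) (pw_mem (pw_mem D.hz _) _), cd_mul D h1 h2, cd_pw D (hmem _ D.hx),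
    cd_pw D (hmem _ D.hy), cd_pw D (pw_mem D.hz _), cd_pwz, smul_zero, add_zero]
  funext r
  simp [mt, Matrix.mulVec, dotProduct, Fin.sum_univ_two, mul_comm]

theorem mt_one : mt D (1 : G) = 1 := by
  have hx : cd D D.x = ![1, 0] := cd_eq D D.hx (k := 0) (by simp [el, pw_zero, pw_one])
  have hy : cd D D.y = ![0, 1] := cd_eq D D.hy (k := 0) (by simp [el, pw_zero, pw_one])
  ext r c
  fin_cases r <;> fin_cases c <;> simp [mt, hx, hy]

theorem normalizer_z (n : G) (hn : n ∈ Subgroup.normalizer (Q : Set G)) : ∃ t : ZMod p, n * D.z * n⁻¹ = pw D.z t := by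
  refine D.cenQ _ ((Subgroup.mem_normalizer_iff.mp hn _).mp D.hz) fun v hv => ?_
  have h := (Subgroup.mem_normalizer_iff.mp ((Subgroup.normalizer _).inv_mem hn) v).mp hv
  rw [inv_inv] at h
  calc n * D.z * n⁻¹ * v = n * (D.z * (n⁻¹ * v * n)) * n⁻¹ := by group
    _ = n * (n⁻¹ * v * n * D.z) * n⁻¹ := by rw [(D.cen _ h).eq]
    _ = v * (n * D.z * n⁻¹) := by group

theorem mt_mul (n m : G) (hn : n ∈ Subgroup.normalizer (Q : Set G)) (hm : m ∈ Subgroup.normalizer (Q : Set G)) :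
    mt D (n * m) = mt D n * mt D m := by
  have hmem : ∀ w ∈ Q, m * w * m⁻¹ ∈ Q := fun w hw => (Subgroup.mem_normalizer_iff.mp hm w).mp hw
  refine Matrix.ext fun r c => ?_
  have key : ∀ w ∈ Q, cd D (n * m * w * (n * m)⁻¹) = mt D n *ᵥ cd D (m * w * m⁻¹) := fun w hw => by
    rw [show n * m * w * (n * m)⁻¹ = n * (m * w * m⁻¹) * n⁻¹ by group,
      cd_conj D n hn (normalizer_z D n hn) (hmem w hw)]
  have hL : mt D (n * m) r c =
      if c = 0 then cd D (n * m * D.x * (n * m)⁻¹) r else cd D (n * m * D.y * (n * m)⁻¹) r := rfl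
  rw [hL, key _ D.hx, key _ D.hy]
  fin_cases c <;> simp [Matrix.mul_apply, Matrix.mulVec, dotProduct, mt]

/-- The determinant gives the action on `z`. -/
theorem det_mt (n : G) (hn : n ∈ Subgroup.normalizer (Q : Set G)) : n * D.z * n⁻¹ = pw D.z (mt D n).det := by
  have hmem : ∀ w ∈ Q, n * w * n⁻¹ ∈ Q := fun w hw => (Subgroup.mem_normalizer_iff.mp hn w).mp hw
  have h1 := commutator_eq D (hmem _ D.hx) (hmem _ D.hy)
  have h2 : n * D.z * n⁻¹ = (n * D.x * n⁻¹) * (n * D.y * n⁻¹) * ((n * D.y * n⁻¹) * (n * D.x * n⁻¹))⁻¹ := by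
    rw [← D.comm, commutatorElement_def]
    group
  rw [h2, h1, mul_inv_cancel_right, Matrix.det_fin_two]
  congr 1

/-- The representation of the normalizer. -/
noncomputable def rho : Subgroup.normalizer (Q : Set G) →* GL (Fin 2) (ZMod p) :=
  MonoidHom.mk' (fun n =>
    { val := mt D n.1
      inv := mt D n.1⁻¹
      val_inv := by rw [← mt_mul D _ _ n.2 ((Subgroup.normalizer _).inv_mem n.2), mul_inv_cancel, mt_one]
      inv_val := by rw [← mt_mul D _ _ ((Subgroup.normalizer _).inv_mem n.2) n.2, inv_mul_cancel, mt_one] })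
    fun a b => Units.ext (mt_mul D a.1 b.1 a.2 b.2)

theorem rho_apply (n : Subgroup.normalizer (Q : Set G)) :
    ((rho D n : GL (Fin 2) (ZMod p)) : Matrix (Fin 2) (Fin 2) (ZMod p)) = mt D n.1 := rfl

theorem rho_self (u : Subgroup.normalizer (Q : Set G)) (hu : u.1 ∈ Q) : rho D u = 1 := by
  refine Units.ext ?_
  rw [rho_apply, Units.val_one]
  have key : ∀ w ∈ Q, cd D (u.1 * w * u.1⁻¹) = cd D w := fun w hw => by
    rw [cd_mul D (Q.mul_mem hu hw) (Q.inv_mem hu), cd_mul D hu hw]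
    have : cd D u.1 + cd D u.1⁻¹ = 0 := by rw [← cd_mul D hu (Q.inv_mem hu), mul_inv_cancel, cd_one]
    linear_combination this
  rw [← mt_one D]
  refine Matrix.ext fun r c => ?_
  have hL : mt D u.1 r c = if c = 0 then cd D (u.1 * D.x * u.1⁻¹) r else cd D (u.1 * D.y * u.1⁻¹) r := rfl
  rw [hL, key _ D.hx, key _ D.hy]
  simp [mt]

end Cfsg.Agent.Techniques.LinePair.Setup
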